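import Groth.Agent.Lib.FormalModH7.Level
import Groth.Agent.Lib.FormalModH7.Forms
import Groth.Prelude.Def_FTors2

/-!
# Torsion sections on affine opens of locally Noetherian formal schemes

Over an affine open with generators `g` of the ideal of definition, a section is torsion locally iff powers of the
generators kill it locally.
-/

set_option autoImplicit false
set_option linter.style.haveILetI false
set_option linter.unusedSectionVars false
set_option backward.isDefEq.respectTransparency false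
set_option backward.isDefEq.respectTransparency.types false
universe u

open CategoryTheory CategoryTheory.Limits AlgebraicGeometry Opposite TopologicalSpace

namespace Groth.Agent.FTorsH7

open FormalModH7 ModFlat16

variable {𝔛 : FSch.Sys.{u}} (hN : 𝔛.IsLocNoethFormal)

/-- The open ideals. -/
noncomputable abbrev fam : FTors.IdealFam (𝔛.Osh hN.1) := FTors.openIdealFam 𝔛 hN.1

variable {V W : (𝔛.X 0).Opens}

theorem mem_fam_iff (hW : IsAffineOpen W) (n : ℕ) (a : AV 𝔛 hN.1 W) :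
    a ∈ (fam hN).ideal n W ↔ a ∈ defIdeal 𝔛 hN.1 W ^ (n + 1) := by
  rw [← (structure_AV hN hW).2.2 n]
  rfl

theorem exists_gens_defIdeal (hV : IsAffineOpen V) :
    ∃ (r : ℕ) (g : Fin r → AV 𝔛 hN.1 V), Ideal.span (Set.range g) = defIdeal 𝔛 hN.1 V := by
  haveI := (structure_AV hN hV).1
  obtain ⟨S, hS⟩ := (IsNoetherian.noetherian (defIdeal 𝔛 hN.1 V))
  refine ⟨S.card, fun k => (S.equivFin.symm k).1, ?_⟩
  rw [← hS]
  refine congrArg Ideal.span (Set.ext fun a => ⟨?_, fun ha => ⟨S.equivFin ⟨a, ha⟩, by simp⟩⟩)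
  rintro ⟨k, rfl⟩
  exact (S.equivFin.symm k).2

variable {r : ℕ} (g : Fin r → AV 𝔛 hN.1 V) {M N : FSch.ModF 𝔛 hN.1}

/-- Killed by powers of the first `i` generators. -/
def Kl (i : ℕ) (e : W ≤ V) (s : FSec hN M W) : Prop :=
  ∃ m : ℕ, ∀ k : Fin r, k.1 < i → rA hN.1 e (g k) ^ m • s = 0

variable {hN g} {i : ℕ} {e : W ≤ V}

theorem kl_zero_index (s : FSec hN M W) : Kl hN g 0 e s := ⟨0, fun _ hk => absurd hk (Nat.not_lt_zero _)⟩

theorem Kl.mono {j : ℕ} {s : FSec hN M W} (h : Kl hN g i e s) (hj : j ≤ i) : Kl hN g j e s :=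
  h.imp fun _ hm k hk => hm k (lt_of_lt_of_le hk hj)

theorem kl_succ_iff {s : FSec hN M W} (hi : i < r) :
    Kl hN g (i + 1) e s ↔ Kl hN g i e s ∧ ∃ a : ℕ, rA hN.1 e (g ⟨i, hi⟩) ^ a • s = 0 := by
  refine ⟨fun ⟨m, hm⟩ => ⟨⟨m, fun k hk => hm k (Nat.lt_succ_of_lt hk)⟩, m, hm ⟨i, hi⟩ (Nat.lt_succ_self i)⟩, ?_⟩
  rintro ⟨⟨m, hm⟩, a, ha⟩
  refine ⟨m + a, fun k hk => ?_⟩
  rcases Nat.lt_succ_iff_lt_or_eq.1 hk with hk' | hk'
  · rw [add_comm, pow_add, mul_smul, hm k hk', smul_zero]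
  · rw [show k = ⟨i, hi⟩ from Fin.ext hk', pow_add, mul_smul, ha, smul_zero]

theorem Kl.add {s t : FSec hN M W} (hs : Kl hN g i e s) (ht : Kl hN g i e t) : Kl hN g i e (s + t) := by
  obtain ⟨m, hm⟩ := hs
  obtain ⟨n, hn⟩ := ht
  refine ⟨m + n, fun k hk => ?_⟩
  rw [smul_add, add_comm m n, pow_add, mul_smul, hm k hk, smul_zero, zero_add, ← pow_add, add_comm n m, pow_add,
    mul_smul, hn k hk, smul_zero]

theorem Kl.smul {s : FSec hN M W} (hs : Kl hN g i e s) (c : AV 𝔛 hN.1 W) : Kl hN g i e (c • s) :=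
  hs.imp fun m hm k hk => by rw [smul_comm, hm k hk, smul_zero]

theorem Kl.neg {s : FSec hN M W} (hs : Kl hN g i e s) : Kl hN g i e (-s) :=
  hs.imp fun m hm k hk => by rw [smul_neg, hm k hk, neg_zero]

theorem Kl.sub {s t : FSec hN M W} (hs : Kl hN g i e s) (ht : Kl hN g i e t) : Kl hN g i e (s - t) := by
  rw [sub_eq_add_neg]
  exact hs.add ht.neg

theorem Kl.zero : Kl hN g i e (0 : FSec hN M W) := ⟨0, fun _ _ => smul_zero _⟩

/-- Removing a power of the next generator. -/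
theorem Kl.of_smul (hi : i < r) {s : FSec hN M W} {a : ℕ} (hs : Kl hN g i e s)
    (h : Kl hN g (i + 1) e (rA hN.1 e (g ⟨i, hi⟩) ^ a • s)) : Kl hN g (i + 1) e s := by
  obtain ⟨-, b, hb⟩ := (kl_succ_iff hi).1 h
  exact (kl_succ_iff hi).2 ⟨hs, b + a, by rw [pow_add, mul_smul, hb]⟩

theorem Kl.res {W' : (𝔛.X 0).Opens} (j : W' ≤ W) {s : FSec hN M W} (hs : Kl hN g i e s) :
    Kl hN g i (j.trans e) (rF hN M j s) :=
  hs.imp fun m hm k hk => by
    have h := congrArg (rF hN M j) (hm k hk)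
    rw [map_zero] at h
    rw [← h]
    refine Eq.trans ?_ (smap_smul (homOfLE j) _ s).symm
    refine congrArg (· • _) ?_
    rw [map_pow]
    exact congrArg (· ^ m) (rA_comp hN.1 e j (g k)).symm

theorem Kl.hom (φ : M ⟶ N) {s : FSec hN M W} (hs : Kl hN g i e s) : Kl hN g i e (φ.val.app (op W) s) :=
  hs.imp fun m hm k hk => by
    rw [← map_zero (φ.val.app (op W)).hom, ← hm k hk]
    exact ((φ.val.app (op W)).hom.map_smul _ _).symm

/-- Sections killed by powers of all the generators are torsion. -/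
theorem exists_killedBy_of_kl (hV : IsAffineOpen V) (hg : Ideal.span (Set.range g) = defIdeal 𝔛 hN.1 V)
    (hW : IsAffineOpen W) {s : FSec hN M W} (hs : Kl hN g r e s) :
    ∃ n, FTors.KilledBy (fam hN) M n s := by
  classical
  obtain ⟨m, hm⟩ := hs
  haveI := (structure_AV hN hV).1
  obtain ⟨n, hn⟩ := Ideal.exists_pow_le_of_le_radical_of_fg (I := defIdeal 𝔛 hN.1 V)
    (J := Ideal.span (Set.range fun k => g k ^ m)) (by
      rw [← hg, Ideal.span_le]
      rintro _ ⟨k, rfl⟩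
      exact ⟨m, Ideal.subset_span ⟨k, rfl⟩⟩) (IsNoetherian.noetherian _)
  refine ⟨n, fun W' l a ha => ?_⟩
  refine sect_ext M (affSieve W') (affSieve_mem W') fun W'' l' hl' => ?_
  obtain ⟨U, hU, h1, h2⟩ := hl'
  let p : W'' ⟶ U := homOfLE h1
  let q : U ⟶ W' := homOfLE h2
  rw [show l' = p ≫ q from Subsingleton.elim _ _, smap_comp, map_zero, smap_smul]
  have hUV : U ≤ V := (leOfHom (q ≫ l)).trans e
  have hmem : rA hN.1 (leOfHom q) a ∈ (Ideal.span (Set.range fun k => g k ^ m)).map (rA hN.1 hUV) := by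
    refine Ideal.map_mono hn ?_
    rw [Ideal.map_pow, map_defIdeal_res hN hV hU hUV]
    exact Ideal.pow_le_pow_right (Nat.le_succ n) ((mem_fam_iff hN hU n _).1 ((fam hN).map_mem n q ha))
  have key : ∀ c ∈ (Ideal.span (Set.range fun k => g k ^ m)).map (rA hN.1 hUV),
      c • smap M (q ≫ l) s = 0 := by
    intro c hc
    rw [Ideal.map_span] at hc
    induction hc using Submodule.span_induction with
    | mem x hx =>
      obtain ⟨_, ⟨k, rfl⟩, rfl⟩ := hx
      have h := congrArg (smap M (q ≫ l)) (hm k k.2)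
      rw [map_zero, smap_smul] at h
      rw [← h]
      refine congrArg (· • _) ?_
      rw [map_pow, map_pow]
      exact congrArg (· ^ m) (rA_comp hN.1 e (leOfHom (q ≫ l)) (g k)).symm
    | zero => exact zero_smul _ _
    | add x y _ _ hx hy => rw [add_smul, hx, hy, add_zero]
    | smul x y _ hy => rw [smul_eq_mul, mul_smul, hy, smul_zero]
  refine (congrArg (smap M p) ?_).trans (map_zero _)
  refine Eq.trans ?_ (key _ hmem)
  rw [smap_comp]
  rfl

/-- Killed sections are killed by powers of the generators. -/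
theorem kl_of_killedBy (hV : IsAffineOpen V) (hg : Ideal.span (Set.range g) = defIdeal 𝔛 hN.1 V)
    (hW : IsAffineOpen W) (e : W ≤ V) (i : ℕ) {s : FSec hN M W} {n : ℕ} (hs : FTors.KilledBy (fam hN) M n s) :
    Kl hN g i e s := by
  refine ⟨n + 1, fun k _ => ?_⟩
  have hk : g k ∈ defIdeal 𝔛 hN.1 V := hg ▸ Ideal.subset_span ⟨k, rfl⟩
  have h := hs (𝟙 W) (rA hN.1 e (g k) ^ (n + 1)) ((mem_fam_iff hN hW n _).2
    (Ideal.pow_mem_pow (by rw [← map_defIdeal_res hN hV hW e]; exact Ideal.mem_map_of_mem _ hk) _))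
  rwa [FTors.res_id] at h

end Groth.Agent.FTorsH7
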