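import Groth.Agent.Lib.TorsD16.Coreflect

/-!
# Maps into the coreflection of a K-injective complex
-/

set_option autoImplicit false
set_option linter.style.haveILetI false
set_option linter.unusedSectionVars false
set_option backward.isDefEq.respectTransparency false
set_option backward.isDefEq.respectTransparency.types false

universe w' w v u

open CategoryTheory CategoryTheory.Limits

namespace Groth.Agent.FTorsH7

open KInjLib TorsD16

variable {C : Type u} [Category.{v} C] [Abelian C] [HasDerivedCategory.{w} C]
  (P : ObjectProperty C) [WSerre.IsWeakSerre P] [HasDerivedCategory.{w'} P.FullSubcategory]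
  {t : C ⥤ P.FullSubcategory} [t.Additive] (adj : P.ι ⊣ t)

local notation "ιC" => P.ι.mapHomologicalComplex (ComplexShape.up ℤ)
local notation "tC" => t.mapHomologicalComplex (ComplexShape.up ℤ)

/-- The counit on a K-injective complex is universal among maps from objects of the image. -/
theorem bijective_comp_eps [(WSerre.toDerived P).Full] (L : CochainComplex P.FullSubcategory ℤ)
    (I : CochainComplex C ℤ) [I.IsKInjective] :
    Function.Bijective fun a : DerivedCategory.Q.obj ((ιC).obj L) ⟶ DerivedCategory.Q.obj ((ιC).obj ((tC).obj I)) =>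
      a ≫ DerivedCategory.Q.map (eps P adj I) := by
  haveI : CochainComplex.IsKInjective ((tC).obj I) := isKInjective_of_adj t P.ι adj I
  let e := P.ι.mapDerivedCategoryFactors
  have hrep : ∀ a : DerivedCategory.Q.obj ((ιC).obj L) ⟶ DerivedCategory.Q.obj ((ιC).obj ((tC).obj I)),
      ∃ φ : L ⟶ (tC).obj I, DerivedCategory.Q.map ((ιC).map φ) = a := fun a => by
    obtain ⟨b, hb⟩ := (WSerre.toDerived P).map_surjective (X := DerivedCategory.Q.obj L)
      (Y := DerivedCategory.Q.obj ((tC).obj I)) (e.hom.app L ≫ a ≫ e.inv.app _)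
    obtain ⟨φ, rfl⟩ := exists_map_eq b
    refine ⟨φ, ?_⟩
    rw [← cancel_epi (e.hom.app L), ← Functor.mapDerivedCategoryFactors_hom_naturality]
    refine (congrArg (· ≫ e.hom.app _) hb).trans ?_
    simp [e]
  have hφ : ∀ φ : L ⟶ (tC).obj I, DerivedCategory.Q.map ((ιC).map φ) ≫ DerivedCategory.Q.map (eps P adj I) =
      DerivedCategory.Q.map (((adjComplexes adj _).homEquiv _ _).symm φ) := fun φ => by
    rw [← Functor.map_comp, Adjunction.homEquiv_counit]
    rfl
  refine ⟨fun a a' h => ?_, fun b => ?_⟩
  · obtain ⟨φ, rfl⟩ := hrep a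
    obtain ⟨ψ, rfl⟩ := hrep a'
    simp only [hφ] at h
    obtain ⟨h'⟩ := (map_eq_iff _ _).1 h
    have h3 : ((adjHomotopy adj _).homEquiv _ ((HomotopyCategory.quotient C _).obj I)).symm
          ((HomotopyCategory.quotient _ _).map φ) =
        ((adjHomotopy adj _).homEquiv _ ((HomotopyCategory.quotient C _).obj I)).symm
          ((HomotopyCategory.quotient _ _).map ψ) := by
      rw [Adjunction.homEquiv_counit, Adjunction.homEquiv_counit]
      have h4 := HomotopyCategory.eq_of_homotopy _ _ h'
      rw [Adjunction.homEquiv_counit, Adjunction.homEquiv_counit] at h4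
      exact h4
    have h5 := (map_eq_iff φ ψ).2 ⟨HomotopyCategory.homotopyOfEq _ _ (Equiv.injective _ h3)⟩
    rw [← cancel_epi (e.hom.app L), ← Functor.mapDerivedCategoryFactors_hom_naturality,
      ← Functor.mapDerivedCategoryFactors_hom_naturality, h5]
  · obtain ⟨χ, rfl⟩ := exists_map_eq b
    refine ⟨DerivedCategory.Q.map ((ιC).map ((adjComplexes adj _).homEquiv _ _ χ)), ?_⟩
    show DerivedCategory.Q.map _ ≫ _ = _
    rw [hφ, Equiv.symm_apply_apply]

/-- An object with cohomology in the subcategory is the image of a complex of the subcategory. -/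
theorem exists_complex_of_essImage {K : DerivedCategory C} (h : (WSerre.toDerived P).essImage K) :
    ∃ L : CochainComplex P.FullSubcategory ℤ, Nonempty (DerivedCategory.Q.obj ((ιC).obj L) ≅ K) := by
  obtain ⟨X, ⟨e⟩⟩ := h
  exact ⟨DerivedCategory.Q.objPreimage X, ⟨(P.ι.mapDerivedCategoryFactors.app _).symm ≪≫
    (WSerre.toDerived P).mapIso (DerivedCategory.Q.objObjPreimageIso X) ≪≫ e⟩⟩

end Groth.Agent.FTorsH7
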