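import Groth.Agent.Lib.FTorsH7.SiteTors
import Groth.Agent.Lib.TorsD16.Coreflect
import Groth.Agent.Lib.FTorsH7.CorefEps
import Groth.Agent.Lib.KInj.DerivedAdj
import Groth.Agent.Lib.KInj.Resolution
import Groth.Agent.Lib.KInj.RightDerived
import Groth.Agent.Lib.CohFound.ModulesInst
import Groth.Prelude.Def_FTors2

/-!
# The derived torsion functor of a family of ideals on K-injective complexes
-/

set_option autoImplicit false
set_option linter.style.haveILetI false
set_option linter.unusedSectionVars false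
set_option backward.isDefEq.respectTransparency false
set_option backward.isDefEq.respectTransparency.types false
set_option synthInstance.maxHeartbeats 400000
set_option synthInstance.maxSize 1024
universe u

open CategoryTheory CategoryTheory.Limits Opposite

attribute [local instance] HasDerivedCategory.standard

noncomputable section

namespace Groth.Agent.FTorsH7

variable {C : Type u} [SmallCategory C] {J : GrothendieckTopology C} {O : Sheaf J CommRingCat.{u}}
  (I : FTors.IdealFam O)

theorem enoughKInj : KInjLib.EnoughKInj (ModSite.Mod O) :=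
  haveI : IsGrothendieckAbelian.{u} (ModSite.Mod O) :=
    CohFound.isGrothendieckAbelian_sheafOfModules (ModSite.ringSh O)
  KInjLib.enoughKInj_of_grothendieck

theorem exists_inj_resolution (M : CochainComplex (ModSite.Mod O) ℤ) :
    ∃ (K : CochainComplex (ModSite.Mod O) ℤ) (f : M ⟶ K),
      K.IsKInjective ∧ _root_.QuasiIso f ∧ Mono f ∧ ∀ n, Injective (K.X n) :=
  haveI : IsGrothendieckAbelian.{u} (ModSite.Mod O) :=
    CohFound.isGrothendieckAbelian_sheafOfModules (ModSite.ringSh O)
  KInjLib.exists_resolution M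

theorem exists_res (E : DerivedCategory (ModSite.Mod O)) :
    ∃ K : CochainComplex (ModSite.Mod O) ℤ, K.IsKInjective ∧ (∀ n, Injective (K.X n)) ∧
      Nonempty (E ≅ DerivedCategory.Q.obj K) := by
  obtain ⟨K, f, hK, hf, -, hinj⟩ := exists_inj_resolution (DerivedCategory.Q.objPreimage E)
  exact ⟨K, hK, hinj, ⟨(DerivedCategory.Q.objObjPreimageIso E).symm ≪≫ asIso (DerivedCategory.Q.map f)⟩⟩

/-- The torsion subcomplex. -/
abbrev gam (K : CochainComplex (ModSite.Mod O) ℤ) : CochainComplex (ModSite.Mod O) ℤ :=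
  ((FTors.gamma O I).mapHomologicalComplex (ComplexShape.up ℤ)).obj K

/-- The inclusion of the torsion subcomplex. -/
abbrev inclG (K : CochainComplex (ModSite.Mod O) ℤ) : gam I K ⟶ K :=
  (NatTrans.mapHomologicalComplex (FTors.gammaι I) (ComplexShape.up ℤ)).app K ≫
    (Functor.mapHomologicalComplexIdIso (ModSite.Mod O) (ComplexShape.up ℤ)).hom.app K

theorem inclG_f (K : CochainComplex (ModSite.Mod O) ℤ) (n : ℤ) :
    (inclG I K).f n = (FTors.gammaι I).app (K.X n) := by
  simp [inclG]
  exact Category.comp_id _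

variable [FTors.HasRgamma I]

/-- The value on a K-injective complex. -/
def unitIso (K : CochainComplex (ModSite.Mod O) ℤ) [K.IsKInjective] :
    DerivedCategory.Q.obj (gam I K) ≅ (FTors.Rgamma I).obj (DerivedCategory.Q.obj K) :=
  haveI := KInjLib.isIso_app_of_isKInjective enoughKInj
    ((FTors.gammaKh I).totalRightDerivedUnit DerivedCategory.Qh
      (HomotopyCategory.quasiIso (ModSite.Mod O) (ComplexShape.up ℤ))) K
  ((DerivedCategory.quotientCompQhIso (ModSite.Mod O)).app (gam I K)).symm ≪≫
    (DerivedCategory.Qh.mapIso (((FTors.gamma O I).mapHomotopyCategoryFactors (ComplexShape.up ℤ)).app K).symm) ≪≫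
    asIso (((FTors.gammaKh I).totalRightDerivedUnit DerivedCategory.Qh
      (HomotopyCategory.quasiIso (ModSite.Mod O) (ComplexShape.up ℤ))).app
        ((HomotopyCategory.quotient _ _).obj K)) ≪≫
    (FTors.Rgamma I).mapIso ((DerivedCategory.quotientCompQhIso (ModSite.Mod O)).app K)

theorem unitIso_ε (K : CochainComplex (ModSite.Mod O) ℤ) [K.IsKInjective] :
    (unitIso I K).hom ≫ (FTors.Rgammaε I).app (DerivedCategory.Q.obj K) = DerivedCategory.Q.map (inclG I K) := by
  let q := HomotopyCategory.quotient (ModSite.Mod O) (ComplexShape.up ℤ)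
  let e := DerivedCategory.quotientCompQhIso (ModSite.Mod O)
  have h1 := (FTors.Rgamma I).rightDerived_fac_app
    ((FTors.gammaKh I).totalRightDerivedUnit DerivedCategory.Qh
      (HomotopyCategory.quasiIso (ModSite.Mod O) (ComplexShape.up ℤ)))
    (HomotopyCategory.quasiIso (ModSite.Mod O) (ComplexShape.up ℤ)) (𝟭 (DerivedCategory (ModSite.Mod O)))
    (FTors.gammaτ I ≫ (Functor.rightUnitor _).inv) (q.obj K)
  have h2 : (FTors.gammaτ I ≫ (Functor.rightUnitor DerivedCategory.Qh).inv).app (q.obj K) =
      DerivedCategory.Qh.map ((((FTors.gamma O I).mapHomotopyCategoryFactors (ComplexShape.up ℤ)).hom.app K) ≫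
        q.map (inclG I K)) := by
    show (FTors.gammaτ0 I).app K ≫ 𝟙 _ = _
    rw [Category.comp_id, Functor.map_comp]
    simp only [FTors.gammaτ0, NatTrans.comp_app, Functor.associator_inv_app, Functor.associator_hom_app,
      Functor.whiskerRight_app, Functor.leftUnitor_hom_app, Category.id_comp, inclG, Functor.map_comp]
    erw [Category.comp_id]
    rfl
  have hn := (FTors.Rgammaε I).naturality (e.hom.app K)
  have hn' := e.hom.naturality (inclG I K)
  show ((e.inv.app (gam I K) ≫ DerivedCategory.Qh.map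
    (((FTors.gamma O I).mapHomotopyCategoryFactors (ComplexShape.up ℤ)).inv.app K) ≫
    _ ≫ (FTors.Rgamma I).map (e.hom.app K))) ≫ _ = _
  simp only [Category.assoc]
  erw [hn]
  erw [reassoc_of% h1, reassoc_of% h2]
  erw [← Functor.map_comp_assoc]
  erw [Iso.inv_hom_id_app_assoc]
  exact (congrArg (fun t => e.inv.app (gam I K) ≫ t) hn').trans (e.inv_hom_id_app_assoc _ _)

omit [FTors.HasRgamma I] in
theorem eps_eq_inclG (K : CochainComplex (ModSite.Mod O) ℤ) :
    TorsD16.eps (FTors.IsTors I) (gammaAdj I) K = inclG I K := by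
  refine HomologicalComplex.hom_ext _ _ fun n => ?_
  rw [inclG_f]
  exact gammaAdj_counit I (K.X n)

omit [FTors.HasRgamma I] in
theorem isDTors_Q_iff (K : CochainComplex (ModSite.Mod O) ℤ) :
    FTors.IsDTors I (DerivedCategory.Q.obj K) ↔ ∀ i : ℤ, FTors.IsTors I (K.homology i) :=
  forall_congr' fun i =>
    (FTors.IsTors I).prop_iff_of_iso ((DerivedCategory.homologyFunctorFactors (ModSite.Mod O) i).app K)

omit [FTors.HasRgamma I] in
theorem isDTors_of_iso {X Y : DerivedCategory (ModSite.Mod O)} (e : X ≅ Y) (h : FTors.IsDTors I X) :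
    FTors.IsDTors I Y :=
  fun i => isTors_of_iso ((DerivedCategory.homologyFunctor (ModSite.Mod O) i).mapIso e) (h i)

section Serre

variable [WSerre.IsWeakSerre (FTors.IsTors I : ObjectProperty (ModSite.Mod O))]
  (H : ∀ K : CochainComplex (ModSite.Mod O) ℤ, (∀ n, Injective (K.X n)) → (∀ i, FTors.IsTors I (K.homology i)) →
    _root_.QuasiIso (TorsD16.eps (FTors.IsTors I) (gammaAdj I) K))

omit [FTors.HasRgamma I] in
theorem isTors_homology_gam (K : CochainComplex (ModSite.Mod O) ℤ) (i : ℤ) :
    FTors.IsTors I ((gam I K).homology i) :=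
  TorsD16.cohIn_Q_map (FTors.IsTors I) (((gammaF I).mapHomologicalComplex (ComplexShape.up ℤ)).obj K) i

/-- The derived torsion has torsion cohomology. -/
theorem isDTors_Rgamma (E : DerivedCategory (ModSite.Mod O)) : FTors.IsDTors I ((FTors.Rgamma I).obj E) := by
  obtain ⟨K, hK, -, ⟨e⟩⟩ := exists_res E
  exact isDTors_of_iso I (unitIso I K ≪≫ (FTors.Rgamma I).mapIso e.symm)
    ((isDTors_Q_iff I _).2 (isTors_homology_gam I K))

include H in
/-- The universal property of the derived torsion. -/
theorem comp_ε_bijective (E F : DerivedCategory (ModSite.Mod O)) (hE : FTors.IsDTors I E) :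
    Function.Bijective fun φ : E ⟶ (FTors.Rgamma I).obj F => φ ≫ (FTors.Rgammaε I).app F := by
  obtain ⟨hfull, -, hess⟩ := TorsD16.main (gammaAdj I) exists_inj_resolution H
  haveI := hfull
  obtain ⟨L, ⟨eE⟩⟩ := exists_complex_of_essImage (FTors.IsTors I) ((hess E).1 hE)
  obtain ⟨K, hK, -, ⟨eF⟩⟩ := exists_res F
  haveI := hK
  let u := unitIso I K ≪≫ (FTors.Rgamma I).mapIso eF.symm
  have hu : u.hom ≫ (FTors.Rgammaε I).app F = DerivedCategory.Q.map (inclG I K) ≫ eF.inv := by
    rw [← unitIso_ε, Category.assoc]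
    show (_ ≫ (FTors.Rgamma I).map eF.inv) ≫ _ = _
    rw [Category.assoc]
    exact congrArg (_ ≫ ·) ((FTors.Rgammaε I).naturality eF.inv)
  have hbij := bijective_comp_eps (FTors.IsTors I) (gammaAdj I) L K
  rw [eps_eq_inclG] at hbij
  obtain ⟨hinj, hsurj⟩ := hbij
  refine ⟨fun a a' h => ?_, fun b => ?_⟩
  · have h' : (eE.hom ≫ a ≫ u.inv) ≫ DerivedCategory.Q.map (inclG I K) =
        (eE.hom ≫ a' ≫ u.inv) ≫ DerivedCategory.Q.map (inclG I K) := by
      have e1 : u.inv ≫ DerivedCategory.Q.map (inclG I K) = (FTors.Rgammaε I).app F ≫ eF.hom := by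
        rw [Iso.inv_comp_eq, ← Category.assoc, hu, Category.assoc, eF.inv_hom_id]
        exact (Category.comp_id _).symm
      simp only [Category.assoc, e1]
      rw [← Category.assoc a, ← Category.assoc a']
      exact congrArg (fun t => eE.hom ≫ t ≫ eF.hom) h
    exact (cancel_mono u.inv).1 ((cancel_epi eE.hom).1 (hinj h'))
  · obtain ⟨a, ha⟩ := hsurj (eE.hom ≫ b ≫ eF.hom)
    refine ⟨eE.inv ≫ a ≫ u.hom, ?_⟩
    show (eE.inv ≫ a ≫ u.hom) ≫ _ = b
    rw [Category.assoc, Category.assoc, hu, ← Category.assoc a,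
      show a ≫ DerivedCategory.Q.map (inclG I K) = eE.hom ≫ b ≫ eF.hom from ha]
    simp

include H in
/-- Torsion cohomology is the same as being fixed by the derived torsion. -/
theorem isDTors_iff_isIso_ε (E : DerivedCategory (ModSite.Mod O)) :
    FTors.IsDTors I E ↔ IsIso ((FTors.Rgammaε I).app E) := by
  refine ⟨fun hE => ?_, fun h => ?_⟩
  · obtain ⟨K, hK, hinj, ⟨e⟩⟩ := exists_res E
    haveI := hK
    haveI := H K hinj ((isDTors_Q_iff I K).1 (isDTors_of_iso I e hE))
    have h1 : IsIso (DerivedCategory.Q.map (inclG I K)) := by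
      rw [← eps_eq_inclG]; infer_instance
    rw [← unitIso_ε, isIso_comp_left_iff] at h1
    have hn : (FTors.Rgamma I).map e.hom ≫ (FTors.Rgammaε I).app _ = (FTors.Rgammaε I).app E ≫ e.hom :=
      (FTors.Rgammaε I).naturality e.hom
    have : IsIso ((FTors.Rgammaε I).app E ≫ e.hom) := hn ▸ inferInstance
    exact IsIso.of_isIso_comp_right ((FTors.Rgammaε I).app E) e.hom
  · exact isDTors_of_iso I (asIso ((FTors.Rgammaε I).app E)) (isDTors_Rgamma I E)

end Serre

end Groth.Agent.FTorsH7
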