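import Groth.Agent.Lib.FTorsH7.Serre
import Groth.Agent.Lib.FTorsH7.RGamma

/-!
# Torsion cohomology on locally Noetherian formal schemes
-/

set_option autoImplicit false
set_option linter.style.haveILetI false
set_option linter.unusedSectionVars false
set_option backward.isDefEq.respectTransparency false
set_option backward.isDefEq.respectTransparency.types false
set_option synthInstance.maxHeartbeats 400000
set_option synthInstance.maxSize 1024
universe u

open CategoryTheory CategoryTheory.Limits AlgebraicGeometry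

attribute [local instance] HasDerivedCategory.standard

noncomputable section

namespace Groth.Agent.FTorsH7

variable {𝔛 : FSch.Sys.{u}} (hN : 𝔛.IsLocNoethFormal)

theorem isWeakSerre : WSerre.IsWeakSerre (FTors.IsTorsF 𝔛 hN.1) :=
  haveI := isSerreClass hN
  inferInstance

variable [WSerre.IsWeakSerre (FTors.IsTorsF 𝔛 hN.1)]

theorem quasiIso_eps (K : CochainComplex (FSch.ModF 𝔛 hN.1) ℤ) (hK : ∀ n, Injective (K.X n))
    (hH : ∀ i, FTors.IsTors (fam hN) (K.homology i)) :
    _root_.QuasiIso (TorsD16.eps (FTors.IsTors (fam hN)) (gammaAdj (fam hN)) K) := by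
  rw [eps_eq_inclG, show inclG (fam hN) K = incl (hN := hN) K from
    HomologicalComplex.hom_ext _ _ fun n => inclG_f (fam hN) K n]
  exact quasiIso_incl hK hH

theorem toDerived_torsion :
    (WSerre.toDerived (FTors.IsTorsF 𝔛 hN.1)).Full ∧ (WSerre.toDerived (FTors.IsTorsF 𝔛 hN.1)).Faithful ∧
      ∀ K, WSerre.cohIn (FTors.IsTorsF 𝔛 hN.1) K ↔ (WSerre.toDerived (FTors.IsTorsF 𝔛 hN.1)).essImage K :=
  TorsD16.main (gammaAdj (fam hN)) exists_inj_resolution (quasiIso_eps hN)

end Groth.Agent.FTorsH7
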