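import Groth.Agent.Lib.ModFlat16.LocGen
import Groth.Agent.Lib.ModFlat16.ExtZero
import Groth.Agent.Lib.FormalModH7.IsoPres
import Mathlib.CategoryTheory.Abelian.Injective.Basic
import Mathlib.CategoryTheory.Preadditive.Injective.Basic

/-!
# Extension of sections of injective sheaves of modules
-/

set_option autoImplicit false
set_option linter.style.haveILetI false
set_option linter.unusedSectionVars false
set_option backward.isDefEq.respectTransparency false
set_option backward.isDefEq.respectTransparency.types false
universe u

open CategoryTheory CategoryTheory.Limits Opposite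

noncomputable section

namespace Groth.Agent.FTorsH7

open ModFlat16 Groth.Agent.KFlat.Site

variable {C : Type u} [SmallCategory C] {J : GrothendieckTopology C} {O : Sheaf J CommRingCat.{u}}

theorem injective_restr (M : ModSite.Mod O) [Injective M] (U : C) : Injective ((ModSite.restr O U).obj M) := by
  haveI := preservesFiniteLimits_extZero O U
  exact Injective.injective_of_adjoint (ModSite.extZeroAdj O U) M

/-- A map given on generators of an ideal extends to a section, for injective modules. -/
theorem exists_extension_of_injective (M : ModSite.Mod O) [Injective M] {U : C} {ι : Type u} [Fintype ι]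
    (v : ι → O.obj.obj (op U)) (t : ι → ModSite.sect M U)
    (h : ∀ {V : C} (k : V ⟶ U) (c : ι → O.obj.obj (op V)),
      ∑ i, c i * rmap O k (v i) = 0 → ∑ i, c i • smap M k (t i) = 0) :
    ∃ z : ModSite.sect M U, ∀ i, v i • z = t i := by
  classical
  let N := (ModSite.restr O U).obj M
  haveI : Injective N := injective_restr M U
  let φ := freeTo (N := SheafOfModules.unit (ModSite.ringSh (O.over U)))
    (fun i => (v i : ModSite.sect (SheafOfModules.unit (ModSite.ringSh (O.over U))) (Over.mk (𝟙 U))))
  let ψ := freeTo (N := N) (fun i => (t i : ModSite.sect N (Over.mk (𝟙 U))))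
  have h0 : kernel.ι φ ≫ ψ = 0 := by
    apply SheafOfModules.hom_ext
    refine PresheafOfModules.hom_ext fun A => ?_
    obtain ⟨A, rfl⟩ : ∃ A', op A' = A := ⟨A.unop, rfl⟩
    refine ModuleCat.hom_ext (LinearMap.ext fun x => ?_)
    let z : ModSite.sect (SheafOfModules.free (R := ModSite.ringSh (O.over U)) ι) A :=
      (kernel.ι φ).val.app (op A) x
    have hz : φ.val.app (op A) z = 0 := congrArg (fun q => q.val.app (op A) x) (kernel.condition φ)
    show ψ.val.app (op A) z = 0
    rw [← freeElt_coord z, app_freeElt] at hz ⊢
    simp only [φ, ψ, topVal_ιFree_freeTo] at hz ⊢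
    exact h (fromTop (op A)).unop.left (coord z) hz
  let S := ShortComplex.mk (kernel.ι φ) φ (kernel.condition φ)
  have hS : S.Exact := ShortComplex.exact_of_f_is_kernel _ (kernelIsKernel _)
  let g : SheafOfModules.unit (ModSite.ringSh (O.over U)) ⟶ N := hS.descToInjective ψ h0
  have hg : φ ≫ g = ψ := hS.comp_descToInjective ψ h0
  refine ⟨topVal g, fun i => ?_⟩
  have e := congrArg (fun q => topVal (fι i ≫ q)) hg
  have e1 : fι i ≫ φ = secHom (N := SheafOfModules.unit (ModSite.ringSh (O.over U))) (v i) :=
    Cofan.IsColimit.fac (SheafOfModules.isColimitFreeCofan ι) _ i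

  rw [← Category.assoc, e1, topVal_secHom_comp, topVal_ιFree_freeTo] at e
  exact e

end Groth.Agent.FTorsH7
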