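import Groth.Agent.Lib.FTorsH7.Basic
import Groth.Agent.Lib.FTorsH7.Inj

/-!
# Divisibility of sections of injective modules killed by powers of some generators
-/

set_option autoImplicit false
set_option linter.style.haveILetI false
set_option linter.unusedSectionVars false
set_option backward.isDefEq.respectTransparency false
set_option backward.isDefEq.respectTransparency.types false
universe u

open CategoryTheory CategoryTheory.Limits AlgebraicGeometry Opposite TopologicalSpace

namespace Groth.Agent.FTorsH7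

open FormalModH7 ModFlat16

variable {𝔛 : FSch.Sys.{u}} {hN : 𝔛.IsLocNoethFormal} {V W : (𝔛.X 0).Opens} {r : ℕ} {g : Fin r → AV 𝔛 hN.1 V}
  {e : W ≤ V} {i : ℕ}

/-- Modulo sections killed by a further generator, sections are divisible by it. -/
theorem exists_div (I : FSch.ModF 𝔛 hN.1) [Injective I] (hW : IsAffineOpen W) (hi : i < r) {s : FSec hN I W}
    (hs : Kl hN g i e s) (n : ℕ) :
    ∃ z : FSec hN I W, Kl hN g i e z ∧ Kl hN g (i + 1) e (s - rA hN.1 e (g ⟨i, hi⟩) ^ n • z) := by
  classical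
  obtain ⟨m, hm⟩ := hs
  haveI := (structure_AV hN hW).1
  let T := {k : Fin r // k.1 < i}
  let a : T → AV 𝔛 hN.1 W := fun k => rA hN.1 e (g k.1) ^ m
  let G := rA hN.1 e (g ⟨i, hi⟩)
  let B : Ideal (AV 𝔛 hN.1 W) := Ideal.span (Set.range a)
  have hB : ∀ b ∈ B, b • s = 0 := fun b hb => by
    induction hb using Submodule.span_induction with
    | mem x hx => obtain ⟨k, rfl⟩ := hx; exact hm k.1 k.2
    | zero => exact zero_smul _ _
    | add x y _ _ hx hy => rw [add_smul, hx, hy, add_zero]
    | smul x y _ hy => rw [smul_eq_mul, mul_smul, hy, smul_zero]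
  let C : ℕ →o Ideal (AV 𝔛 hN.1 W) :=
    ⟨fun p => Submodule.comap (LinearMap.mulLeft (AV 𝔛 hN.1 W) (G ^ p)) B, fun p q hpq x hx => by
      obtain ⟨d, rfl⟩ := Nat.exists_eq_add_of_le hpq
      show G ^ (p + d) * x ∈ B
      rw [pow_add, mul_comm (G ^ p), mul_assoc]
      exact B.mul_mem_left _ hx⟩
  obtain ⟨N, hN'⟩ := monotone_stabilizes_iff_noetherian.2 inferInstance C
  let v : ULift.{u} (Option T) → AV 𝔛 hN.1 W := fun q => q.down.elim (G ^ (N + n)) a
  let t : ULift.{u} (Option T) → FSec hN I W := fun q => q.down.elim (G ^ N • s) fun _ => 0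
  obtain ⟨z, hz⟩ := exists_extension_of_injective (O := 𝔛.Osh hN.1) I (U := W) v t fun {V'} k c hc => by
    refine sect_ext I (affSieve V') (affSieve_mem V') fun W'' l hl => ?_
    obtain ⟨U, hU, h1, h2⟩ := hl
    let p : W'' ⟶ U := homOfLE h1
    let q : U ⟶ V' := homOfLE h2
    rw [show l = p ≫ q from Subsingleton.elim _ _, smap_comp, map_zero]
    refine (congrArg (smap I p) ?_).trans (map_zero _)
    have j : U ≤ W := h2.trans (leOfHom k)
    let c' : ULift.{u} (Option T) → AV 𝔛 hN.1 U := fun x => rA hN.1 h2 (c x)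
    have hc' : ∀ u ∈ ({()} : Finset Unit), ∑ x, c' x * rA hN.1 j ((fun (_ : Unit) => v) u x) = 0 := fun _ _ => by
      have h0 := congrArg (rA hN.1 h2) hc
      rw [map_zero, map_sum] at h0
      refine Eq.trans (Finset.sum_congr rfl fun x _ => ?_) h0
      rw [map_mul]
      exact congrArg (_ * ·) (rA_comp hN.1 (leOfHom k) h2 (v x)).symm
    have hmem := mem_span_sol hN hW hU j (fun (_ : Unit) => v) {()} c' hc'
    rw [map_sum]
    have e1 : ∀ x, smap I q (c x • smap I k (t x)) = c' x • rF hN I j (t x) := fun x => by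
      rw [smap_smul, ← smap_comp]
      rfl
    rw [Finset.sum_congr rfl fun x _ => e1 x]
    generalize c' = d at hmem
    induction hmem using Submodule.span_induction with
    | mem x hx =>
      obtain ⟨b, rfl⟩ := hx
      have hb := b.2 () (Finset.mem_singleton_self _)
      have hsplit : ∀ {M : Type u} [AddCommMonoid M] (f : ULift.{u} (Option T) → M),
          ∑ x, f x = f ⟨none⟩ + ∑ x : T, f ⟨some x⟩ := fun f => by
        rw [← Equiv.ulift.symm.sum_comp f, Fintype.sum_option]
        rfl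
      rw [hsplit] at hb
      have hb1 : G ^ (N + n) * b.1 ⟨none⟩ ∈ B := by
        rw [mul_comm]
        show b.1 ⟨none⟩ * v ⟨none⟩ ∈ B
        rw [eq_neg_of_add_eq_zero_left hb]
        exact B.neg_mem (B.sum_mem fun k _ => B.mul_mem_left _ (Ideal.subset_span ⟨k, rfl⟩))
      have hb2 : G ^ N * b.1 ⟨none⟩ ∈ B := (hN' (N + n) (Nat.le_add_right N n)).symm.le hb1
      have hb3 : ∑ x, b.1 x • t x = 0 := by
        rw [hsplit]
        have : b.1 ⟨none⟩ • t ⟨none⟩ = 0 := by
          show b.1 ⟨none⟩ • G ^ N • s = 0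
          rw [← mul_smul, mul_comm]
          exact hB _ hb2
        rw [this, zero_add]
        exact Finset.sum_eq_zero fun k _ => smul_zero _
      have hb4 := congrArg (rF hN I j) hb3
      rw [map_sum, map_zero] at hb4
      refine Eq.trans (Finset.sum_congr rfl fun x _ => ?_) hb4
      exact (smap_smul (homOfLE j) _ _).symm
    | zero => exact Finset.sum_eq_zero fun x _ => zero_smul _ _
    | add x y _ _ hx hy => simp only [Pi.add_apply, add_smul, Finset.sum_add_distrib, hx, hy, add_zero]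
    | smul x y _ hy => simp only [Pi.smul_apply, smul_eq_mul, mul_smul, ← Finset.smul_sum, hy, smul_zero]
  refine ⟨z, ⟨m, fun k hk => hz ⟨some ⟨k, hk⟩⟩⟩, ?_⟩
  refine (kl_succ_iff hi).2 ⟨Kl.sub ⟨m, hm⟩ (Kl.smul ⟨m, fun k hk => hz ⟨some ⟨k, hk⟩⟩⟩ _), N, ?_⟩
  rw [smul_sub, ← mul_smul, ← pow_add, sub_eq_zero]
  exact (hz ⟨none⟩).symm

end Groth.Agent.FTorsH7
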