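import Groth.Agent.Lib.FTorsH7.Loc
import Mathlib.Order.Zorn
import Mathlib.AlgebraicGeometry.Noetherian

/-!
# Quasi-coherent torsion modules: finitely generated submodules extend
-/

set_option autoImplicit false
set_option linter.style.haveILetI false
set_option linter.unusedSectionVars false
set_option backward.isDefEq.respectTransparency false
set_option backward.isDefEq.respectTransparency.types false
universe u

open CategoryTheory CategoryTheory.Limits AlgebraicGeometry Opposite TopologicalSpace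

noncomputable section

namespace Groth.Agent.FTorsH7

open FormalModH7 ModFlat16

variable {𝔛 : FSch.Sys.{u}} {hN : 𝔛.IsLocNoethFormal}

theorem fD_rA_le {V U : (𝔛.X 0).Opens} (e : U ≤ V) (a : AV 𝔛 hN.1 V) : fD hN (rA hN.1 e a) ≤ fD hN a := by
  rw [fD, fD, prj_rA]
  exact ((𝔛.X 0).basicOpen_res _ (homOfLE (lvU_mono hN.1 e 0)).op).trans_le inf_le_right

theorem rF_self {M : FSch.ModF 𝔛 hN.1} {V : (𝔛.X 0).Opens} (h : V ≤ V) (m : FSec hN M V) : rF hN M h m = m :=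
  smap_id (F := M) m

include hN in
theorem isCompact_le_affine {U W : (𝔛.X 0).Opens} (hU : IsAffineOpen U) (h : W ≤ U) :
    IsCompact (W : Set (𝔛.X 0)) := by
  haveI := hN.2.2 0
  haveI := IsLocallyNoetherian.component_noetherian (X := 𝔛.X 0) ⟨U, hU⟩
  haveI : NoetherianSpace ↑(U : Set (𝔛.X 0)) := noetherianSpace_of_isAffineOpen U hU
  have h1 := (NoetherianSpace.isCompact ((Subtype.val : ↑(U : Set (𝔛.X 0)) → 𝔛.X 0) ⁻¹' (W : Set (𝔛.X 0)))).image
    continuous_subtype_val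
  rwa [Subtype.image_preimage_coe, Set.inter_eq_right.2 h] at h1

variable {M : FSch.ModF 𝔛 hN.1}

/-- Locally in the span of finitely many sections. -/
def LocComb {U G : (𝔛.X 0).Opens} (l : G ≤ U) (H : Finset (FSec hN M U)) (m : FSec hN M G) : Prop :=
  ∀ x ∈ G, ∃ (G' : (𝔛.X 0).Opens) (e : G' ≤ G), x ∈ G' ∧
    rF hN M e m ∈ Submodule.span (AV 𝔛 hN.1 G') (rF hN M (e.trans l) '' (H : Set (FSec hN M U)))

theorem rF_mem_span {U G G' : (𝔛.X 0).Opens} (l : G ≤ U) (e : G' ≤ G) {S : Set (FSec hN M U)} {m : FSec hN M G}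
    (hm : m ∈ Submodule.span (AV 𝔛 hN.1 G) (rF hN M l '' S)) :
    rF hN M e m ∈ Submodule.span (AV 𝔛 hN.1 G') (rF hN M (e.trans l) '' S) := by
  induction hm using Submodule.span_induction with
  | mem x hx =>
    obtain ⟨t, ht, rfl⟩ := hx
    rw [rF_rF]
    exact Submodule.subset_span ⟨t, ht, rfl⟩
  | zero => rw [map_zero]; exact Submodule.zero_mem _
  | add x y _ _ hx hy => rw [map_add]; exact Submodule.add_mem _ hx hy
  | smul c x _ hx =>
    rw [show rF hN M e (c • x) = rA hN.1 e c • rF hN M e x from smap_smul _ _ _]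
    exact Submodule.smul_mem _ _ hx

theorem LocComb.res {U G G' : (𝔛.X 0).Opens} {l : G ≤ U} {H : Finset (FSec hN M U)} {m : FSec hN M G}
    (h : LocComb l H m) (k : G' ≤ G) : LocComb (k.trans l) H (rF hN M k m) := fun x hx => by
  obtain ⟨G₁, e, hx₁, hm⟩ := h x (k hx)
  refine ⟨G₁ ⊓ G', inf_le_right, ⟨hx₁, hx⟩, ?_⟩
  have h1 := rF_mem_span _ (inf_le_left : G₁ ⊓ G' ≤ G₁) hm
  rw [rF_rF] at h1 ⊢
  exact h1

theorem LocComb.of_locally {U G : (𝔛.X 0).Opens} {l : G ≤ U} {H : Finset (FSec hN M U)} {m : FSec hN M G}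
    (h : ∀ x ∈ G, ∃ (G' : (𝔛.X 0).Opens) (e : G' ≤ G), x ∈ G' ∧ LocComb (e.trans l) H (rF hN M e m)) :
    LocComb l H m := fun x hx => by
  obtain ⟨G', e, hx', h'⟩ := h x hx
  obtain ⟨G'', e', hx'', hm⟩ := h' x hx'
  refine ⟨G'', e'.trans e, hx'', ?_⟩
  rw [rF_rF] at hm
  exact hm

/-- The sections locally in the span. -/
def combSub {U G : (𝔛.X 0).Opens} (l : G ≤ U) (H : Finset (FSec hN M U)) :
    Submodule (AV 𝔛 hN.1 G) (FSec hN M G) where
  carrier := {m | LocComb l H m}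
  zero_mem' x hx := ⟨G, le_rfl, hx, by rw [map_zero]; exact Submodule.zero_mem _⟩
  add_mem' {a b} ha hb x hx := by
    obtain ⟨G₁, e₁, hx₁, h₁⟩ := ha x hx
    obtain ⟨G₂, e₂, hx₂, h₂⟩ := hb x hx
    refine ⟨G₁ ⊓ G₂, inf_le_left.trans e₁, ⟨hx₁, hx₂⟩, ?_⟩
    rw [map_add]
    have h1 := rF_mem_span _ (inf_le_left : G₁ ⊓ G₂ ≤ G₁) h₁
    have h2 := rF_mem_span _ (inf_le_right : G₁ ⊓ G₂ ≤ G₂) h₂
    rw [rF_rF] at h1 h2
    exact Submodule.add_mem _ h1 h2
  smul_mem' c a ha x hx := by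
    obtain ⟨G₁, e₁, hx₁, h₁⟩ := ha x hx
    refine ⟨G₁, e₁, hx₁, ?_⟩
    rw [show rF hN M e₁ (c • a) = rA hN.1 e₁ c • rF hN M e₁ a from smap_smul _ _ _]
    exact Submodule.smul_mem _ _ h₁

theorem locComb_self {U : (𝔛.X 0).Opens} {H : Finset (FSec hN M U)} {h : FSec hN M U} (hh : h ∈ H)
    {G : (𝔛.X 0).Opens} (l : G ≤ U) : LocComb l H (rF hN M l h) := fun x hx =>
  ⟨G, le_rfl, hx, by rw [rF_rF]; exact Submodule.subset_span ⟨h, hh, rfl⟩⟩

/-- A finitely generated submodule defined on an open, with its saturation. -/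
structure Part (hN : 𝔛.IsLocNoethFormal) (M : FSch.ModF 𝔛 hN.1) where
  /-- The open -/
  W : (𝔛.X 0).Opens
  /-- The sections -/
  p : ∀ U : (𝔛.X 0).Opens, Submodule (AV 𝔛 hN.1 U) (FSec hN M U)
  res : ∀ ⦃U U' : (𝔛.X 0).Opens⦄ (l : U' ≤ U) (m : FSec hN M U), m ∈ p U → rF hN M l m ∈ p U'
  loc : ∀ ⦃U : (𝔛.X 0).Opens⦄ (m : FSec hN M U),
    (∀ x ∈ U, ∃ (U' : (𝔛.X 0).Opens) (l : U' ≤ U), x ∈ U' ∧ rF hN M l m ∈ p U') → m ∈ p U
  sat : ∀ ⦃U : (𝔛.X 0).Opens⦄ (m : FSec hN M U), rF hN M (inf_le_left : U ⊓ W ≤ U) m ∈ p (U ⊓ W) → m ∈ p U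
  gens : ∀ x ∈ W, ∃ V : (𝔛.X 0).Opens, x ∈ V ∧ V ≤ W ∧ ∃ T : Finset (FSec hN M V), (∀ t ∈ T, t ∈ p V) ∧
    ∀ ⦃G : (𝔛.X 0).Opens⦄ (l : G ≤ V) (m : FSec hN M G), m ∈ p G → LocComb l T m

/-- Extension of partial submodules. -/
instance : Preorder (Part hN M) where
  le P Q := P.W ≤ Q.W ∧ ∀ U ≤ P.W, Q.p U = P.p U
  le_refl P := ⟨le_rfl, fun _ _ => rfl⟩
  le_trans P Q R h h' := ⟨h.1.trans h'.1, fun U hU => (h'.2 U (hU.trans h.1)).trans (h.2 U hU)⟩

theorem Part.mem_of_le {P Q : Part hN M} (h : P ≤ Q) {U : (𝔛.X 0).Opens} {m : FSec hN M U} (hm : m ∈ Q.p U) :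
    m ∈ P.p U :=
  P.sat m (by rw [← h.2 _ inf_le_right]; exact Q.res _ _ hm)

theorem Part.loc_self (P : Part hN M) {U : (𝔛.X 0).Opens} (m : FSec hN M U) (h : U = ⊥) : m ∈ P.p U :=
  P.loc m fun x hx => by subst h; exact absurd hx id

variable (M) in
/-- The empty partial submodule. -/
def Part.bot : Part hN M where
  W := ⊥
  p U := ⊤
  res _ _ _ _ _ := Submodule.mem_top
  loc _ _ _ := Submodule.mem_top
  sat _ _ _ := Submodule.mem_top
  gens x hx := absurd hx id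

/-- The union of a chain. -/
def Part.union (c : Set (Part hN M)) (hc : IsChain (· ≤ ·) c) : Part hN M where
  W := ⨆ P : c, P.1.W
  p U := ⨅ P : c, P.1.p U
  res _ _ l m hm := (Submodule.mem_iInf _).2 fun P => P.1.res l m ((Submodule.mem_iInf _).1 hm P)
  loc U m h := (Submodule.mem_iInf _).2 fun P => P.1.loc m fun x hx => by
    obtain ⟨U', l, hx', hm⟩ := h x hx
    exact ⟨U', l, hx', (Submodule.mem_iInf _).1 hm P⟩
  sat U m h := (Submodule.mem_iInf _).2 fun P => P.1.sat m (by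
    have h1 := P.1.res (inf_le_inf_left U (le_iSup (fun Q : c => Q.1.W) P)) _ ((Submodule.mem_iInf _).1 h P)
    rw [rF_rF] at h1
    exact h1)
  gens x hx := by
    obtain ⟨P, hxP⟩ := Opens.mem_iSup.1 hx
    have key : ∀ U ≤ P.1.W, (⨅ Q : c, Q.1.p U) = P.1.p U := fun U hU => by
      refine le_antisymm (iInf_le _ P) (le_iInf fun Q m hm => ?_)
      rcases hc.total P.2 Q.2 with h | h
      · rw [h.2 U hU]; exact hm
      · exact Part.mem_of_le h hm
    obtain ⟨V, hxV, hV, T, hT, hT'⟩ := P.1.gens x hxP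
    refine ⟨V, hxV, hV.trans (le_iSup (fun Q : c => Q.1.W) P), T, fun t ht => ?_, fun G l m hm => hT' l m ?_⟩
    · rw [key V hV]; exact hT t ht
    · rw [key G (l.trans hV)] at hm; exact hm

theorem Part.le_union (c : Set (Part hN M)) (hc : IsChain (· ≤ ·) c) (P : Part hN M) (hP : P ∈ c) : P ≤ Part.union c hc := by
  refine ⟨le_iSup (fun Q : c => Q.1.W) ⟨P, hP⟩, fun U hU => le_antisymm (iInf_le _ (⟨P, hP⟩ : c))
    (le_iInf fun Q m hm => ?_)⟩
  rcases hc.total hP Q.2 with h | h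
  · rw [h.2 U hU]; exact hm
  · exact Part.mem_of_le h hm

variable (P : Part hN M) {U : (𝔛.X 0).Opens} (H : Finset (FSec hN M U))
  (hH : ∀ h ∈ H, h ∈ P.p U)
  (hcov : ∀ ⦃G : (𝔛.X 0).Opens⦄ (l : G ≤ U), G ≤ P.W → ∀ m : FSec hN M G, m ∈ P.p G → LocComb l H m)

/-- Sections of the extension. -/
def Part.extSub (G : (𝔛.X 0).Opens) : Submodule (AV 𝔛 hN.1 G) (FSec hN M G) where
  carrier := {m | m ∈ P.p G ∧ LocComb (inf_le_right : G ⊓ U ≤ U) H (rF hN M inf_le_left m)}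
  zero_mem' := ⟨Submodule.zero_mem _, by rw [map_zero]; exact (combSub (inf_le_right : G ⊓ U ≤ U) H).zero_mem⟩
  add_mem' ha hb := ⟨Submodule.add_mem _ ha.1 hb.1, by rw [map_add]; exact (combSub (inf_le_right : G ⊓ U ≤ U) H).add_mem ha.2 hb.2⟩
  smul_mem' c m hm := ⟨Submodule.smul_mem _ _ hm.1, by
    rw [show rF hN M (inf_le_left : G ⊓ U ≤ G) (c • m) = rA hN.1 inf_le_left c • rF hN M inf_le_left m
      from smap_smul _ _ _]
    exact (combSub (inf_le_right : G ⊓ U ≤ U) H).smul_mem _ hm.2⟩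

/-- Extension by one open. -/
def Part.extend : Part hN M where
  W := P.W ⊔ U
  p := P.extSub H
  res G G' l m hm := ⟨P.res l m hm.1, by
    have h1 := hm.2.res (inf_le_inf_right U l)
    rw [rF_rF] at h1 ⊢
    exact h1⟩
  loc G m h := ⟨P.loc m fun x hx => by
      obtain ⟨G', l, hx', hm⟩ := h x hx
      exact ⟨G', l, hx', hm.1⟩,
    LocComb.of_locally fun x hx => by
      obtain ⟨G', l, hx', hm⟩ := h x hx.1
      refine ⟨G' ⊓ U, inf_le_inf_right U l, ⟨hx', hx.2⟩, ?_⟩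
      have h1 := hm.2
      rw [rF_rF] at h1 ⊢
      exact h1⟩
  sat G m h := by
    obtain ⟨h1, h2⟩ := h
    refine ⟨P.sat m ?_, ?_⟩
    · have h3 := P.res (inf_le_inf_left G (le_sup_left : P.W ≤ P.W ⊔ U)) _ h1
      rw [rF_rF] at h3
      exact h3
    · have h4 := h2.res (le_inf (le_inf inf_le_left (inf_le_right.trans le_sup_right)) inf_le_right :
        G ⊓ U ≤ (G ⊓ (P.W ⊔ U)) ⊓ U)
      rw [rF_rF, rF_rF] at h4
      exact h4
  gens x hx := by
    rcases hx with hx | hx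
    · obtain ⟨V, hxV, hV, T, hT, hT'⟩ := P.gens x hx
      refine ⟨V, hxV, hV.trans le_sup_left, T, fun t ht => ⟨hT t ht, ?_⟩, fun G l m hm => hT' l m hm.1⟩
      exact hcov inf_le_right (inf_le_left.trans hV) _ (P.res _ _ (hT t ht))
    · refine ⟨U, hx, le_sup_right, H, fun h hh => ⟨hH h hh, locComb_self hh _⟩, fun G l m hm => ?_⟩
      have h1 := hm.2.res (le_inf le_rfl l : G ≤ G ⊓ U)
      rw [rF_rF, rF_self] at h1
      exact h1

theorem Part.le_extend : P ≤ P.extend H hH hcov :=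
  ⟨le_sup_left, fun G hG => le_antisymm (fun _ hm => hm.1)
    fun m hm => ⟨hm, hcov inf_le_right (inf_le_left.trans hG) _ (P.res _ _ hm)⟩⟩

end Groth.Agent.FTorsH7
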