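import Groth.Agent.Lib.FTorsH7.IndTors
import Groth.Agent.Lib.FormalModH7.QKer

/-!
# The torsion sections of a quasi-coherent module are quasi-coherent
-/

set_option autoImplicit false
set_option linter.style.haveILetI false
set_option linter.unusedSectionVars false
set_option backward.isDefEq.respectTransparency false
set_option backward.isDefEq.respectTransparency.types false
universe u

open CategoryTheory CategoryTheory.Limits AlgebraicGeometry Opposite TopologicalSpace

noncomputable section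

namespace Groth.Agent.FTorsH7

open FormalModH7 ModFlat16

variable {𝔛 : FSch.Sys.{u}} {hN : 𝔛.IsLocNoethFormal} {M : FSch.ModF 𝔛 hN.1} {X₀ V : (𝔛.X 0).Opens}

include hN in
theorem killedBy_of_gens (hV : IsAffineOpen V) {κ : Type*} (a : κ → AV 𝔛 hN.1 V) (n : ℕ)
    (ha : Ideal.span (Set.range a) = defIdeal 𝔛 hN.1 V ^ (n + 1)) (m : FSec hN M V) (h : ∀ l, a l • m = 0) :
    FTors.KilledBy (fam hN) M n m := fun W k b hb => by
  refine sect_ext M (affSieve W) (affSieve_mem W) fun W'' l hl => ?_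
  obtain ⟨U, hU, h1, h2⟩ := hl
  let p : W'' ⟶ U := homOfLE h1
  let q : U ⟶ W := homOfLE h2
  rw [show l = p ≫ q from Subsingleton.elim _ _, smap_comp, map_zero]
  refine (congrArg (smap M p) ?_).trans (map_zero _)
  have eU : U ≤ V := h2.trans k.le
  have hb' : rA hN.1 h2 b ∈ (Ideal.span (Set.range a)).map (rA hN.1 eU) := by
    rw [ha, Ideal.map_pow, map_defIdeal_res hN hV hU eU]
    exact (mem_fam_iff hN hU n _).1 ((fam hN).map_mem n q hb)
  have e : smap M q (b • FTors.res M k m) = rA hN.1 h2 b • rF hN M eU m :=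
    (smap_smul q b _).trans (congrArg (_ • ·) (smap_comp (F := M) k q m).symm)
  rw [e]
  generalize rA hN.1 h2 b = c at hb'
  rw [Ideal.map_span] at hb'
  induction hb' using Submodule.span_induction with
  | mem x hx =>
    obtain ⟨_, ⟨l, rfl⟩, rfl⟩ := hx
    rw [show rA hN.1 eU (a l) • rF hN M eU m = rF hN M eU (a l • m) from (smap_smul _ _ _).symm, h l, map_zero]
  | zero => exact zero_smul _ _
  | add x y _ _ hx hy => rw [add_smul, hx, hy, add_zero]
  | smul x y _ hy => rw [smul_eq_mul, mul_smul, hy, smul_zero]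

open Classical in
/-- The coefficients of the equations saying that multiples of a combination are relations. -/
def eqnC {R : Type*} [CommRing R] {L F T : Type*} (a : L → R) (Rr : T → F → R) (p : L × F) : F ⊕ (L × T) → R :=
  Sum.elim (fun j => if j = p.2 then a p.1 else 0) (fun q => if q.1 = p.1 then -(Rr q.2 p.2) else 0)

open Classical in
/-- The equations saying that multiples of a combination are relations. -/
theorem sum_eqn {R S : Type*} [CommRing R] [CommRing S] (φ : R →+* S) {L F T : Type*} [Fintype L] [Fintype F]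
    [Fintype T] (a : L → R) (Rr : T → F → R) (z : F ⊕ (L × T) → S) (l : L) (i : F) :
    ∑ k, z k * φ (eqnC a Rr (l, i) k) =
      φ (a l) * z (Sum.inl i) - ∑ r, z (Sum.inr (l, r)) * φ (Rr r i) := by
  rw [Fintype.sum_sum_type, Fintype.sum_prod_type,
    Finset.sum_eq_single i (fun j _ hj => by simp [eqnC, hj]) (fun h => absurd (Finset.mem_univ _) h),
    Finset.sum_eq_single l (fun q _ hq => by simp [eqnC, hq]) (fun h => absurd (Finset.mem_univ _) h)]
  simp [eqnC, sub_eq_add_neg, mul_comm]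

/-- Multiples of combinations which are relations vanish. -/
theorem smul_comb_eq_zero {R N : Type*} [CommRing R] [AddCommGroup N] [Module R N] {F T : Type*} [Fintype F] [Fintype T]
    (g : F → N) (Rr : T → F → R) (h : ∀ r, ∑ j, Rr r j • g j = 0) (a : R) (c : F → R) (b : T → R)
    (e : ∀ j, a * c j = ∑ r, b r * Rr r j) : a • ∑ j, c j • g j = 0 := by
  simp only [Finset.smul_sum, ← mul_smul, e, Finset.sum_smul]
  rw [Finset.sum_comm]
  exact Finset.sum_eq_zero fun r _ => by simp only [mul_smul, ← Finset.smul_sum, h r, smul_zero]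

/-- Combinations with coefficients in a span lie in a submodule containing those of the generators. -/
theorem comb_mem_of_span {R N : Type*} [CommRing R] [AddCommGroup N] [Module R N] {F G : Type*} [Fintype F]
    (g : F → N) (Q : Submodule R N) (S : Set (F ⊕ G → R)) (h : ∀ w ∈ S, ∑ j, w (Sum.inl j) • g j ∈ Q)
    {z : F ⊕ G → R} (hz : z ∈ Submodule.span R S) : ∑ j, z (Sum.inl j) • g j ∈ Q := by
  induction hz using Submodule.span_induction with
  | mem x hx => exact h x hx
  | zero => simp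
  | add x y _ _ hx hy =>
    simp only [Pi.add_apply, add_smul, Finset.sum_add_distrib]
    exact Submodule.add_mem _ hx hy
  | smul x y _ hy =>
    simp only [Pi.smul_apply, smul_eq_mul, mul_smul, ← Finset.smul_sum]
    exact Submodule.smul_mem _ _ hy

variable (hV : IsAffineOpen V) (hVX : V ≤ X₀)
  (P : SheafOfModules.Presentation ((ModSite.restr (𝔛.Osh hN.1) X₀).obj M))

set_option maxHeartbeats 400000 in
include hV in
/-- Solutions of the equations for killed combinations come from the bigger open. -/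
theorem comb_mem_killed {U : (𝔛.X 0).Opens} (hU : IsAffineOpen U) (e : U ≤ V) (n : ℕ) {L F T : Type*} [Fintype L]
    [Fintype F] [Fintype T] (a : L → AV 𝔛 hN.1 V) (ha : Ideal.span (Set.range a) = defIdeal 𝔛 hN.1 V ^ (n + 1))
    (g : F → FSec hN M V) (Rr : T → F → AV 𝔛 hN.1 V) (hR : ∀ r, ∑ j, Rr r j • g j = 0) (c : F → AV 𝔛 hN.1 U)
    (d : L → T → AV 𝔛 hN.1 U) (hd : ∀ l j, rA hN.1 e (a l) * c j = ∑ r, d l r * rA hN.1 e (Rr r j)) :
    ∑ j, c j • rF hN M e (g j) ∈
      Submodule.span (AV 𝔛 hN.1 U) (rF hN M e '' {m | FTors.KilledBy (fam hN) M n m}) := by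
  classical
  let z : F ⊕ (L × T) → AV 𝔛 hN.1 U := Sum.elim c fun q => d q.1 q.2
  have hz := mem_span_sol hN hV hU e (eqnC a Rr) Finset.univ z fun p _ => by
    refine (sum_eqn (rA hN.1 e) a Rr z p.1 p.2).trans ?_
    show rA hN.1 e (a p.1) * c p.2 - ∑ r, d p.1 r * rA hN.1 e (Rr r p.2) = 0
    rw [sub_eq_zero, hd]
  refine comb_mem_of_span (fun j : F => rF hN M e (g j))
    (Submodule.span (AV 𝔛 hN.1 U) (rF hN M e '' {m | FTors.KilledBy (fam hN) M n m}))
    (Set.range fun (w : sol hN (eqnC a Rr) Finset.univ) k => rA hN.1 e (w.1 k)) ?_ (z := z) hz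
  rintro _ ⟨s, rfl⟩
  refine Submodule.subset_span ⟨∑ j, s.1 (Sum.inl j) • g j, ?_, ?_⟩
  · refine killedBy_of_gens hV a n ha _ fun l => ?_
    refine smul_comb_eq_zero g Rr hR (a l) (fun j => s.1 (Sum.inl j)) (fun r => s.1 (Sum.inr (l, r))) fun j => ?_
    have h1 := (sum_eqn (RingHom.id _) a Rr s.1 l j).symm.trans
      ((mem_sol hN (eqnC a Rr) Finset.univ s.1).1 s.2 (l, j) (Finset.mem_univ _))
    exact sub_eq_zero.1 h1
  · rw [map_sum]
    exact Finset.sum_congr rfl fun j _ => smap_smul _ _ _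

set_option maxHeartbeats 800000 in
include hV hVX P in
/-- Killed sections on smaller affine opens are combinations of killed sections. -/
theorem exists_comb_killed {U : (𝔛.X 0).Opens} (hU : IsAffineOpen U) (e : U ≤ V) (n : ℕ) (t : FSec hN M U)
    (ht : FTors.KilledBy (fam hN) M n t) (F : Finset P.generators.I) (c : F → AV 𝔛 hN.1 U)
    (hc : t = ∑ j, c j • rF hN M e (gX hN hVX P j.1)) :
    t ∈ Submodule.span (AV 𝔛 hN.1 U) (rF hN M e '' {m | FTors.KilledBy (fam hN) M n m}) := by
  classical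
  haveI := (structure_AV hN hV).1
  obtain ⟨L, hL⟩ := (IsNoetherian.noetherian (defIdeal 𝔛 hN.1 V ^ (n + 1)) :
    (defIdeal 𝔛 hN.1 V ^ (n + 1)).FG)
  obtain ⟨T, hT⟩ := exists_rels_gX hN hV hVX P F
  have ha : ∀ l : L, rA hN.1 e l.1 • t = 0 := fun l => by
    refine smul_eq_zero_of_prj ht ((RingHom.mem_ker).1 ?_)
    rw [(structure_AV hN hU).2.2 n, ← map_defIdeal_res hN hV hU e, ← Ideal.map_pow]
    exact Ideal.mem_map_of_mem _ (hL ▸ Submodule.subset_span l.2)
  have hd : ∀ l : L, ∃ d : T → AV 𝔛 hN.1 U, ∀ j, rA hN.1 e l.1 * c j = ∑ r, d r * rA hN.1 e (r.1 j) := fun l => by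
    have h0 := mem_span_of_rels hN hU e hT (fun j => rA hN.1 e l.1 * c j) (by
      have h1 := ha l
      rw [hc, Finset.smul_sum] at h1
      refine Eq.trans (Finset.sum_congr rfl fun j _ => ?_) h1
      exact mul_smul _ _ _)
    obtain ⟨d, hd⟩ := (Submodule.mem_span_range_iff_exists_fun (AV 𝔛 hN.1 U)).1 h0
    refine ⟨d, fun j => ?_⟩
    have h2 := congrFun hd j
    simp only [Finset.sum_apply, Pi.smul_apply, smul_eq_mul] at h2
    exact h2.symm
  choose d hd using hd
  rw [hc]
  exact comb_mem_killed hV hU e n (fun l : L => l.1) (by rw [Subtype.range_coe_subtype]; exact hL)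
    (fun j : F => gX hN hVX P j.1) (fun (r : T) j => r.1 j) hT.1 c d hd

include hV hVX P in
/-- The torsion sections have a presentation. -/
theorem nonempty_presentation_gamma :
    Nonempty (SheafOfModules.Presentation
      ((ModSite.restr (𝔛.Osh hN.1) V).obj ((FTors.gammaT 𝔛 hN.1).obj M))) := by
  classical
  let G := (FTors.gammaT 𝔛 hN.1).obj M
  let σ := FSec hN G V
  let s : σ → FSec hN G V := fun z => z
  have hval : ∀ {W : (𝔛.X 0).Opens} (k : W ⟶ V) (F : Finset σ) (c : σ → AV 𝔛 hN.1 W),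
      Subtype.val (∑ j ∈ F, c j • smap G k (s j) : FSec hN G W) = ∑ j ∈ F, c j • smap M k (Subtype.val (s j)) :=
    fun {W} k F c => map_sum (apF ((FTors.gammaι (fam hN)).app M) W) _ _
  refine nonempty_presentation_of_genF (s := s) (fun W k x => ?_) fun W k F c hc => ?_
  · refine mem_of_forall (fun W' W'' l q ⟨F, c, hc⟩ => ⟨F, fun j => rA hN.1 q.le (c j), by
      rw [smap_comp, hc, map_sum]
      exact Finset.sum_congr rfl fun a _ => by rw [smap_smul, ← smap_comp, Category.assoc]; rfl⟩) fun y hy => ?_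
    obtain ⟨W₁, l₁, hm, hy₁⟩ := x.2 y hy
    obtain ⟨n, hn⟩ := hm
    obtain ⟨W₂, l₂, hl₂, hy₂⟩ := genF_gX hN hVX P (l₁ ≫ k) (FTors.res M l₁ (Subtype.val x)) |>.choose_spec.1 y hy₁
    obtain ⟨F, c, hc⟩ := (genF_gX hN hVX P (l₁ ≫ k) (FTors.res M l₁ (Subtype.val x))).choose_spec.2 l₂ hl₂
    obtain ⟨U, hU, hyU, hle⟩ := exists_isAffineOpen_mem_and_subset (U := W₂) hy₂
    have e : U ≤ V := hle.trans ((l₂ ≫ l₁ ≫ k).le)
    have h1 := exists_comb_killed hV hVX P hU e n
      (rF hN M hle (smap M l₂ (FTors.res M l₁ (Subtype.val x)))) (FTors.KilledBy.res (I := fam hN) (M := M) (homOfLE hle) (hn.res l₂)) F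
      (fun j => rA hN.1 hle (c j.1)) (by
        rw [hc, map_sum, Finset.sum_coe_sort F fun j => rA hN.1 hle (c j) • rF hN M e (gX hN hVX P j)]
        exact Finset.sum_congr rfl fun j _ =>
          (smap_smul _ _ _).trans (congrArg (_ • ·) (smap_comp _ _ _).symm))
    obtain ⟨w, hw⟩ := Finsupp.mem_span_image_iff_linearCombination (AV 𝔛 hN.1 U) |>.1 h1
    refine ⟨U, homOfLE hle ≫ l₂ ≫ l₁, hyU, ?_⟩
    let v : FSec hN M V → σ := fun m => if hm : FTors.KilledBy (fam hN) M n m then
      ⟨m, FTors.IsTorsSect.of_killedBy hm⟩ else ⟨0, FTors.IsTorsSect.zero (fam hN) M V⟩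
    have hv : ∀ m, FTors.KilledBy (fam hN) M n m → Subtype.val (v m) = m := fun m hm => by simp [v, hm]
    refine ⟨w.support.image v, fun z => ∑ m ∈ w.support.filter (fun m => v m = z), w m, Subtype.ext ?_⟩
    rw [hval]
    let φ : σ → FSec hN M U := fun z => smap M ((homOfLE hle ≫ l₂ ≫ l₁) ≫ k) (Subtype.val (s z))
    have e2 : ∀ z, (∑ m ∈ w.support.filter (fun m => v m = z), w m) • φ z =
        ∑ m ∈ w.support.filter (fun m => v m = z), w m • φ (v m) := fun z => by
      rw [Finset.sum_smul]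
      exact Finset.sum_congr rfl fun m hm => by rw [(Finset.mem_filter.1 hm).2]
    show _ = ∑ z ∈ w.support.image v, (∑ m ∈ w.support.filter (fun m => v m = z), w m) • φ z
    rw [Finset.sum_congr rfl fun z _ => e2 z,
      Finset.sum_fiberwise_of_maps_to (g := v) (t := w.support.image v) (fun m hm => Finset.mem_image_of_mem _ hm) (fun m => w m • φ (v m))]
    show smap M (homOfLE hle ≫ l₂ ≫ l₁) (Subtype.val x) = _
    refine (((smap_comp _ _ _).trans (congrArg _ (smap_comp _ _ _))).trans hw.2.symm).trans ?_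
    rw [Finsupp.linearCombination_apply, Finsupp.sum]
    exact Finset.sum_congr rfl fun m hm => congrArg (w m • ·) (congrArg _ (hv m (hw.1 hm)).symm)
  · obtain ⟨S, hS, h⟩ := relF_of_pres hN hV hVX P (fun z : σ => Subtype.val (s z)) k F c (by
      rw [← hval, hc]; rfl)
    refine ⟨S, hS, fun W' l hl => ?_⟩
    obtain ⟨κ, hκ, G', a, e, hFG, ha, he⟩ := h l hl
    refine ⟨κ, hκ, G', a, e, hFG, fun q => Subtype.ext ?_, he⟩
    show Subtype.val (∑ j ∈ G', a q j • s j : FSec hN G V) = (0 : FSec hN M V)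
    refine Eq.trans ?_ (ha q)
    exact map_sum (apF ((FTors.gammaι (fam hN)).app M) V) _ _

/-- The torsion sections of a quasi-coherent module are quasi-coherent. -/
theorem isQuasicoherent_gamma [SheafOfModules.IsQuasicoherent.{u} M] :
    SheafOfModules.IsQuasicoherent.{u} ((FTors.gammaT 𝔛 hN.1).obj M) := by
  refine isQuasicoherent_of_covd fun X => ?_
  refine mem_of_forall (fun U U' l q ⟨V, hV, hP⟩ => ⟨V, ⟨q ≫ hV.some⟩, hP⟩) fun x hx => ?_
  obtain ⟨V, X₀, hV, hxV, hle, hVX, ⟨P⟩⟩ := exists_pres_affine (hN := hN) (M := M) hx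
  exact ⟨V, homOfLE hle, hxV, V, ⟨𝟙 V⟩, nonempty_presentation_gamma (hN := hN) hV hVX P⟩

end Groth.Agent.FTorsH7
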