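import Groth.Agent.Lib.FormalModH7.IsoPres
import Mathlib.Algebra.Homology.ShortComplex.Abelian

/-!
# Isomorphisms on homology of complexes of sheaves of modules, on local elements
-/

set_option autoImplicit false
set_option linter.style.haveILetI false
set_option linter.unusedSectionVars false
set_option backward.isDefEq.respectTransparency false
set_option backward.isDefEq.respectTransparency.types false

universe u

open CategoryTheory CategoryTheory.Limits Opposite

namespace Groth.Agent.FTorsH7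

open FormalModH7 ModFlat16

variable {C : Type u} [SmallCategory C] {J : GrothendieckTopology C} {O : Sheaf J CommRingCat.{u}}
  {S S₁ S₂ : ShortComplex (ModSite.Mod O)}

theorem exists_cycle_lift (S : ShortComplex (ModSite.Mod O)) {U : C} (x : ModSite.sect S.X₂ U)
    (hx : S.g.val.app (op U) x = 0) : ∃ c, S.iCycles.val.app (op U) c = x := by
  have h0 : (freeOnHom O U S.X₂).symm x ≫ S.g = 0 := by
    apply (freeOnHom O U S.X₃).injective
    rw [freeOnHom_comp, Equiv.apply_symm_apply, hx]
    have h0 := freeOnHom_comp O (0 : ModSite.freeOn O U ⟶ S.X₂) (0 : S.X₂ ⟶ S.X₃)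
    rw [comp_zero] at h0
    exact h0.symm
  refine ⟨freeOnHom O U S.cycles (S.liftCycles _ h0), ?_⟩
  rw [← freeOnHom_comp, ShortComplex.liftCycles_i]
  exact (freeOnHom O U S.X₂).apply_symm_apply x

theorem exact_toCycles_π (S : ShortComplex (ModSite.Mod O)) :
    (ShortComplex.mk S.toCycles S.homologyπ S.toCycles_comp_homologyπ).Exact :=
  ShortComplex.exact_of_g_is_cokernel _ S.homologyIsCokernel

/-- A cycle which is locally a boundary has class zero. -/
theorem homologyπ_eq_zero_of_locally {U : C} (c : ModSite.sect S.cycles U) (T : Sieve U) (hT : T ∈ J U)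
    (h : ∀ ⦃W : C⦄ (l : W ⟶ U), T l → ∃ w, S.f.val.app (op W) w = smap S.X₂ l (S.iCycles.val.app (op U) c)) :
    S.homologyπ.val.app (op U) c = 0 := by
  refine sect_ext _ T hT fun W l hl => ?_
  obtain ⟨w, hw⟩ := h l hl
  rw [map_zero, ← app_smap]
  have e : smap S.cycles l c = S.toCycles.val.app (op W) w := by
    refine sections_injective' S.iCycles W ?_
    rw [app_smap, ← hw, ← S.toCycles_i]
    rfl
  rw [e]
  exact app_smap_comp_zero S.toCycles S.homologyπ S.toCycles_comp_homologyπ w

theorem isIso_homologyMap_of_locally (φ : S₁ ⟶ S₂)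
    (hsurj : ∀ (U : C) (x : ModSite.sect S₂.X₂ U), S₂.g.val.app (op U) x = 0 →
      ∃ T ∈ J U, ∀ ⦃W : C⦄ (l : W ⟶ U), T l → ∃ (y : ModSite.sect S₁.X₂ W) (w : ModSite.sect S₂.X₁ W),
        S₁.g.val.app (op W) y = 0 ∧ smap S₂.X₂ l x = φ.τ₂.val.app (op W) y + S₂.f.val.app (op W) w)
    (hinj : ∀ (U : C) (y : ModSite.sect S₁.X₂ U) (w : ModSite.sect S₂.X₁ U), S₁.g.val.app (op U) y = 0 →
      φ.τ₂.val.app (op U) y = S₂.f.val.app (op U) w →
      ∃ T ∈ J U, ∀ ⦃W : C⦄ (l : W ⟶ U), T l → ∃ v, S₁.f.val.app (op W) v = smap S₁.X₂ l y) :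
    IsIso (ShortComplex.homologyMap φ) := by
  have hnat : ∀ (U : C) (c : ModSite.sect S₁.cycles U),
      (ShortComplex.homologyMap φ).val.app (op U) (S₁.homologyπ.val.app (op U) c) =
        S₂.homologyπ.val.app (op U) ((ShortComplex.cyclesMap φ).val.app (op U) c) := fun U c =>
    congrArg (fun q => q.val.app (op U) c) (ShortComplex.homologyπ_naturality φ)
  have hcyc : ∀ (U : C) (c : ModSite.sect S₁.cycles U),
      S₂.iCycles.val.app (op U) ((ShortComplex.cyclesMap φ).val.app (op U) c) =
        φ.τ₂.val.app (op U) (S₁.iCycles.val.app (op U) c) := fun U c =>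
    congrArg (fun q => q.val.app (op U) c) (ShortComplex.cyclesMap_i φ)
  haveI : Mono (ShortComplex.homologyMap φ) := by
    refine mono_of_sections _ fun U q hq => ?_
    obtain ⟨T, hT, hT'⟩ := ExtSupp8.exists_local_preimage S₁.homologyπ q
    refine sect_ext _ T hT fun W l hl => ?_
    obtain ⟨c, hc⟩ := hT' l hl
    rw [map_zero, show smap S₁.homology l q = S₁.homologyπ.val.app (op W) c from hc.symm]
    have h0 : S₂.homologyπ.val.app (op W) ((ShortComplex.cyclesMap φ).val.app (op W) c) = 0 := by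
      rw [← hnat, show S₁.homologyπ.val.app (op W) c = smap S₁.homology l q from hc, app_smap, hq, map_zero]
    obtain ⟨T', hT', h'⟩ := exists_locally_of_exact (exact_toCycles_π S₂) _ h0
    obtain ⟨T'', hT'', h''⟩ := bind_cover (J := J)
      (Q := fun W'' l'' => ∃ v, S₁.f.val.app (op W'') v = smap S₁.X₂ l'' (S₁.iCycles.val.app (op W) c))
      T' hT' fun W' l' hl' => by
        obtain ⟨v, hv⟩ := h' l' hl'
        have e : φ.τ₂.val.app (op W') (smap S₁.X₂ l' (S₁.iCycles.val.app (op W) c)) = S₂.f.val.app (op W') v := by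
          rw [app_smap, ← hcyc, ← S₂.toCycles_i]
          show _ = S₂.iCycles.val.app (op W') (S₂.toCycles.val.app (op W') v)
          rw [hv, app_smap]
        obtain ⟨T₁, hT₁, h₁⟩ := hinj W' _ v (by
          rw [app_smap, app_smap_comp_zero S₁.iCycles S₁.g S₁.iCycles_g c, map_zero]) e
        refine ⟨T₁, hT₁, fun W'' m hm => ?_⟩
        obtain ⟨v', hv'⟩ := h₁ m hm
        exact ⟨v', by rw [hv', ← smap_comp]⟩
    exact homologyπ_eq_zero_of_locally c T'' hT'' h''
  haveI : Epi (ShortComplex.homologyMap φ) := by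
    refine epi_of_locally _ fun U q => ?_
    obtain ⟨T, hT, hT'⟩ := ExtSupp8.exists_local_preimage S₂.homologyπ q
    refine bind_cover T hT fun W l hl => ?_
    obtain ⟨c, hc⟩ := hT' l hl
    obtain ⟨T', hT', h'⟩ := hsurj W (S₂.iCycles.val.app (op W) c)
      (app_smap_comp_zero S₂.iCycles S₂.g S₂.iCycles_g c)
    refine ⟨T', hT', fun W' l' hl' => ?_⟩
    obtain ⟨y, w, hy, hyw⟩ := h' l' hl'
    obtain ⟨c₁, hc₁⟩ := exists_cycle_lift S₁ y hy
    refine ⟨S₁.homologyπ.val.app (op W') c₁, ?_⟩
    rw [hnat, smap_comp, show smap S₂.homology l q = S₂.homologyπ.val.app (op W) c from hc.symm, ← app_smap]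
    have e : smap S₂.cycles l' c = (ShortComplex.cyclesMap φ).val.app (op W') c₁ + S₂.toCycles.val.app (op W') w := by
      refine sections_injective' S₂.iCycles W' ?_
      rw [app_smap, map_add, hcyc, hc₁, hyw, ← S₂.toCycles_i]
      rfl
    rw [e, map_add, app_smap_comp_zero S₂.toCycles S₂.homologyπ S₂.toCycles_comp_homologyπ w, add_zero]
  exact isIso_of_mono_of_epi _

end Groth.Agent.FTorsH7
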