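import Groth.Agent.Lib.FTorsH7.Maximal
import Groth.Agent.Lib.FormalModH7.IndCoh

/-!
# Quasi-coherent torsion modules are unions of coherent modules
-/

set_option autoImplicit false
set_option linter.style.haveILetI false
set_option linter.unusedSectionVars false
set_option backward.isDefEq.respectTransparency false
set_option backward.isDefEq.respectTransparency.types false
universe u

open CategoryTheory CategoryTheory.Limits AlgebraicGeometry Opposite TopologicalSpace

noncomputable section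

namespace Groth.Agent.FTorsH7

open FormalModH7 ModFlat16

variable {𝔛 : FSch.Sys.{u}} {hN : 𝔛.IsLocNoethFormal} {M : FSch.ModF 𝔛 hN.1} (P : Part hN M)

/-- The presheaf of sections of a partial submodule. -/
def Part.pre : (𝔛.X 0).Opensᵒᵖ ⥤ Ab.{u} where
  obj X := AddCommGrpCat.of (P.p (unop X))
  map {X Y} f := AddCommGrpCat.ofHom
    { toFun := fun s => ⟨rF hN M f.unop.le s.1, P.res f.unop.le _ s.2⟩
      map_zero' := Subtype.ext (map_zero _)
      map_add' := fun s t => Subtype.ext (map_add _ _ _) }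
  map_id X := by
    ext s
    exact rF_self _ s.1
  map_comp f g := by
    ext s
    exact (rF_rF _ _ s.1).symm

instance Part.preModule (X : (𝔛.X 0).Opensᵒᵖ) :
    Module ((ModSite.ringSh (𝔛.Osh hN.1)).obj.obj X) (P.pre.obj X) :=
  inferInstanceAs (Module (AV 𝔛 hN.1 (unop X)) (P.p (unop X)))

/-- The sections as a subfunctor. -/
def Part.subfunctor : Subfunctor (M.val.presheaf ⋙ forget Ab.{u}) where
  obj X := {s | (show FSec hN M (unop X) from s) ∈ P.p (unop X)}
  map f _ hs := P.res f.unop.le _ hs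

theorem Part.isSheaf_pre : Presheaf.IsSheaf (Opens.grothendieckTopology (𝔛.X 0)) P.pre := by
  have hM : Presieve.IsSheaf (Opens.grothendieckTopology (𝔛.X 0)) (M.val.presheaf ⋙ forget Ab.{u}) :=
    (isSheaf_iff_isSheaf_of_type _ _).1
      ((Presheaf.isSheaf_iff_isSheaf_forget _ M.val.presheaf (forget Ab.{u})).1 M.isSheaf)
  rw [Presheaf.isSheaf_iff_isSheaf_forget _ P.pre (forget Ab.{u}), isSheaf_iff_isSheaf_of_type]
  let i : P.pre ⋙ forget Ab.{u} ≅ P.subfunctor.toFunctor := NatIso.ofComponents (fun X => Equiv.toIso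
    { toFun := fun s => ⟨s.1, s.2⟩
      invFun := fun s => ⟨s.1, s.2⟩
      left_inv := fun _ => rfl
      right_inv := fun _ => rfl }) (fun _ => rfl)
  refine Presieve.isSheaf_iso _ i.symm ((P.subfunctor.isSheaf_iff hM).2 ?_)
  intro X s hs
  refine P.loc (U := unop X) s fun x hx => ?_
  obtain ⟨W, l, hl, hxW⟩ := hs x hx
  exact ⟨W, l.le, hxW, hl⟩

/-- The submodule of a partial submodule. -/
def Part.obj : FSch.ModF 𝔛 hN.1 where
  val := PresheafOfModules.ofPresheaf P.pre fun _ _ f r m => Subtype.ext (smap_smul (F := M) f.unop r m.1)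
  isSheaf := P.isSheaf_pre

/-- The inclusion. -/
def Part.ι : P.obj ⟶ M :=
  ⟨PresheafOfModules.homMk
    { app := fun X => AddCommGrpCat.ofHom
        { toFun := fun s => s.1
          map_zero' := rfl
          map_add' := fun _ _ => rfl }
      naturality := fun _ _ g => by ext s; rfl }
    (fun _ r s => rfl)⟩

theorem Part.isFinitePresentation [SheafOfModules.IsQuasicoherent.{u} M] (hP : P.W = ⊤) :
    SheafOfModules.IsFinitePresentation (R := ModSite.ringSh (𝔛.Osh hN.1)) P.obj := by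
  classical
  refine isFinitePresentation_of_covd fun X => ?_
  refine ⟨{ arrows := fun U _ => HasPres P.obj U, downward_closed := fun {_ _} _ h g => h.res g },
    fun x hx => ?_, fun U k hk => hk⟩
  obtain ⟨V₁, hxV₁, -, T, hT, hT'⟩ := P.gens x (by rw [hP]; trivial)
  obtain ⟨V, X₀, hV, hxV, hVle, hVX, ⟨Pr⟩⟩ := exists_pres_affine (hN := hN) (M := M) (U := X ⊓ V₁) ⟨hx, hxV₁⟩
  refine ⟨V, homOfLE (hVle.trans inf_le_left), ?_, hxV⟩
  have eV : V ≤ V₁ := hVle.trans inf_le_right
  let t : T → FSec hN M V := fun a => rF hN M eV a.1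
  let t' : T → FSec hN P.obj V := fun a => ⟨t a, P.res eV _ (hT a.1 a.2)⟩
  obtain ⟨R, hR⟩ := exists_rels hN hV hVX Pr t fun a => exists_lift_gX hN hV hVX Pr _
  have hc : ∀ {W : (𝔛.X 0).Opens} (k : W ⟶ V) (c : T → AV 𝔛 hN.1 W),
      Subtype.val (∑ a, c a • smap P.obj k (t' a) : FSec hN P.obj W) = ∑ a, c a • smap M k (t a) := fun {W} k c =>
    map_sum (apF P.ι W) _ _
  refine ⟨T, R, inferInstance, inferInstance, t', fun r => r.1, gens_mk _ fun {W} k m => ?_, rels_mk _ _ ?_ ?_⟩
  · obtain ⟨S, hS, h⟩ := mem_of_forall (U := W)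
      (Q := fun W' l => ∃ c : T → AV 𝔛 hN.1 W', smap P.obj l m = ∑ a, c a • smap P.obj (l ≫ k) (t' a))
      (fun W' W'' l q ⟨c, hc⟩ => ⟨fun a => rA hN.1 q.le (c a), by
        rw [smap_comp, hc, map_sum]
        exact Finset.sum_congr rfl fun a _ => by rw [smap_smul, ← smap_comp, Category.assoc]; rfl⟩)
      fun y hy => by
        obtain ⟨G, e, hyG, hG⟩ := hT' (k.le.trans eV) m.1 m.2 y hy
        rw [show rF hN M (e.trans (k.le.trans eV)) '' (T : Set (FSec hN M V₁)) =
          Set.range fun a : T => rF hN M (e.trans (k.le.trans eV)) a.1 by ext; simp] at hG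
        obtain ⟨c, hc'⟩ := (Submodule.mem_span_range_iff_exists_fun (AV 𝔛 hN.1 G)).1 hG
        refine ⟨G, homOfLE e, hyG, c, Subtype.ext ?_⟩
        show rF hN M e m.1 = _
        rw [hc, ← hc']
        refine Finset.sum_congr rfl fun a _ => congrArg (c a • ·) ?_
        exact (rF_rF eV (e.trans k.le) a.1).symm
    exact ⟨S, hS, h⟩
  · intro r
    refine Subtype.ext ?_
    refine Eq.trans ?_ (hR.1 r)
    exact map_sum (apF P.ι V) _ _
  · intro W k c hc'
    refine rels_apply hR k c ?_
    rw [← hc, hc']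
    rfl

theorem mem_Part_app {U : (𝔛.X 0).Opens} {s : FSec hN M U} (hs : s ∈ P.p U) :
    P.ι.val.app (op U) (⟨s, hs⟩ : FSec hN P.obj U) = s :=
  rfl

variable {P}

/-- Quasi-coherent torsion modules are ind-coherent. -/
theorem indC_of_isTors {M : FSch.ModF 𝔛 hN.1} [SheafOfModules.IsQuasicoherent.{u} M]
    (hT : FTors.IsTors (fam hN) M) : IndC hN M := by
  classical
  let A := Σ V : (𝔛.X 0).Opens, FSec hN M V
  choose Q hQ hQs using fun a : A => exists_part hT a.2
  refine ind_of_covers hN (A := A) (C := fun a => (Q a).obj) (f := fun a => (Q a).ι)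
    (fun a => (Q a).isFinitePresentation (hQ a)) fun U x y hy => ?_
  refine ⟨U, le_rfl, hy, {⟨U, x⟩}, fun a => if h : (⟨U, x⟩ : A) = a then h ▸ ⟨x, hQs ⟨U, x⟩⟩ else 0, ?_⟩
  rw [Finset.sum_singleton]
  dsimp only
  rw [dif_pos rfl]
  exact smap_id (F := M) x

end Groth.Agent.FTorsH7
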