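import Groth.Agent.Lib.FTorsH7.PushLevel
import Groth.Agent.Lib.FormalModH7.IndExt

/-!
# Dévissage of coherent torsion modules to the bottom level
-/

set_option autoImplicit false
set_option linter.style.haveILetI false
set_option linter.unusedSectionVars false
set_option backward.isDefEq.respectTransparency false
set_option backward.isDefEq.respectTransparency.types false
universe u

open CategoryTheory CategoryTheory.Limits AlgebraicGeometry Opposite TopologicalSpace

noncomputable section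

namespace Groth.Agent.FTorsH7

open FormalModH7 ModFlat16

variable {𝔛 : FSch.Sys.{u}} (hN : 𝔛.IsLocNoethFormal)

/-- Every section is killed by the given open ideal. -/
def KilledM (M : FSch.ModF 𝔛 hN.1) (n : ℕ) : Prop :=
  ∀ (U : (𝔛.X 0).Opens) (s : FSec hN M U), FTors.KilledBy (fam hN) M n s

variable (M : FSch.ModF 𝔛 hN.1) [SheafOfModules.IsFinitePresentation (R := ModSite.ringSh (𝔛.Osh hN.1)) M]

/-- Coherent torsion modules are killed by an open ideal. -/
theorem exists_killedM [CompactSpace (𝔛.X 0)] (hT : FTors.IsTors (fam hN) M) : ∃ n, KilledM hN M n := by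
  classical
  have hc : ∀ x : 𝔛.X 0, ∃ V : (𝔛.X 0).Opens, IsAffineOpen V ∧ x ∈ V := fun x => by
    obtain ⟨V, hV, hxV, -⟩ := exists_isAffineOpen_mem_and_subset (U := (⊤ : (𝔛.X 0).Opens)) (show x ∈ ⊤ from trivial)
    exact ⟨V, hV, hxV⟩
  choose V hV hxV using hc
  obtain ⟨G, hG⟩ := isCompact_univ.elim_finite_subcover (fun x => (V x : Set (𝔛.X 0))) (fun x => (V x).2)
    fun x _ => Set.mem_iUnion.2 ⟨x, hxV x⟩
  have hk : ∀ x, ∃ n, ∀ (W : (𝔛.X 0).Opens) (_ : IsAffineOpen W) (_ : W ≤ V x) (t : FSec hN M W),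
      FTors.KilledBy (fam hN) M n t := fun x => by
    obtain ⟨ι, hι, g, hg⟩ := exists_gens hN M (hV x)
    obtain ⟨n, hn⟩ := exists_killedBy_family (hN := hN) hT (hV x).isCompact g
    refine ⟨n, fun W hW e t => ?_⟩
    have ht : t ∈ Submodule.span (AV 𝔛 hN.1 W) (Set.range fun j => rF hN M e (g j)) :=
      span_rF hN M (hV x) hW e g hg ▸ Submodule.mem_top
    induction ht using Submodule.span_induction with
    | mem y hy => obtain ⟨j, rfl⟩ := hy; exact FTors.KilledBy.res (homOfLE e) (hn j)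
    | zero => exact FTors.KilledBy.zero _ _ _ _
    | add a b _ _ ha hb => exact FTors.KilledBy.add ha hb
    | smul c a _ ha => exact FTors.KilledBy.smul c ha
  choose n hn using hk
  refine ⟨G.sup n, fun U s => killedBy_of_cover
    (S := { arrows := fun W _ => ∃ A : (𝔛.X 0).Opens, IsAffineOpen A ∧ W ≤ A ∧ A ≤ U ∧ ∃ x ∈ G, A ≤ V x
            downward_closed := fun ⟨A, h1, h2, h3⟩ g => ⟨A, h1, g.le.trans h2, h3⟩ }) (fun y hy => ?_) fun W l hl => ?_⟩
  · obtain ⟨x, hx, hyx⟩ := Set.mem_iUnion₂.1 (hG (Set.mem_univ y))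
    obtain ⟨A, hA, hyA, hAU⟩ := exists_isAffineOpen_mem_and_subset (U := U ⊓ V x) ⟨hy, hyx⟩
    exact ⟨A, homOfLE (le_trans hAU inf_le_left), ⟨A, hA, le_rfl, le_trans hAU inf_le_left, x, hx,
      le_trans hAU inf_le_right⟩, hyA⟩
  · obtain ⟨A, hA, h1, h2, x, hx, hAx⟩ := hl
    have h3 := ((hn x A hA hAx (smap M (homOfLE h2) s)).mono (Finset.le_sup (f := n) hx)).res (homOfLE h1)
    rwa [show FTors.res M (homOfLE h1) (smap M (homOfLE h2) s) = smap M l s from
      (smap_comp (F := M) (homOfLE h2) (homOfLE h1) s).symm] at h3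

theorem surjective_unitL {V : (𝔛.X 0).Opens} (hV : IsAffineOpen V) (n : ℕ) :
    Function.Surjective ((unitL hN M n).val.app (op V)) := fun y => by
  obtain ⟨z, hz⟩ := piM_surjective (sysL hN M) hN (isCoh_sysL hN M) hV n y
  refine ⟨(zetaEquiv hN M V).symm z, ?_⟩
  refine (piM_zeta hN M V n _).symm.trans ?_
  refine Eq.trans (congrArg (piM hN.1 (sysL hN M) V n) ?_) hz
  exact (zetaEquiv hN M V).apply_symm_apply z

instance epi_unitL (n : ℕ) : Epi (unitL hN M n) :=
  epi_of_affine hN _ fun _ hV => surjective_unitL hN M hV n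

/-- The kernel of the unit to the bottom level is killed by one ideal less. -/
theorem killedM_kernel {n : ℕ} (h : KilledM hN M (n + 1)) : KilledM hN (kernel (unitL hN M 0)) n := fun U y => by
  refine killedBy_of_cover (affSieve_mem U) fun W l hl => ?_
  obtain ⟨A, hA, h1, h2⟩ := hl
  rw [show smap (kernel (unitL hN M 0)) l y =
    FTors.res _ (homOfLE h1) (smap (kernel (unitL hN M 0)) (homOfLE h2) y) from smap_comp _ _ _]
  refine FTors.KilledBy.res _ ?_
  generalize smap (kernel (unitL hN M 0)) (homOfLE h2) y = z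
  obtain ⟨L, hL⟩ := ((fg_defIdeal hN hA).pow : (defIdeal 𝔛 hN.1 A ^ (n + 1)).FG)
  refine killedBy_of_gens hA (fun a : L => a.1) n (by rw [Subtype.range_coe_subtype]; exact hL) z fun a => ?_
  refine sections_injective' (kernel.ι (unitL hN M 0)) A ?_
  rw [map_zero]
  refine (((kernel.ι (unitL hN M 0)).val.app (op A)).hom.map_smul a.1 z).trans ?_
  let x : FSec hN M A := (kernel.ι (unitL hN M 0)).val.app (op A) z
  have hx : x ∈ defIdeal 𝔛 hN.1 A ^ (0 + 1) • (⊤ : Submodule (AV 𝔛 hN.1 A) (FSec hN M A)) :=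
    (ker_unitL hN hA 0 x).1 (ModFlat16.app_smap_comp_zero _ (unitL hN M 0) (kernel.condition _) z)
  have ha : a.1 ∈ defIdeal 𝔛 hN.1 A ^ (n + 1) := hL ▸ Submodule.subset_span a.2
  show a.1 • x = 0
  refine Submodule.smul_induction_on (p := fun x => a.1 • x = 0) hx (fun b hb m _ => ?_)
    fun x y hx hy => by rw [smul_add, hx, hy, add_zero]
  rw [← mul_smul]
  refine smul_eq_zero_of_prj (h A m) ((RingHom.mem_ker).1 ?_)
  rw [(structure_AV hN hA).2.2 (n + 1)]
  exact pow_add (defIdeal 𝔛 hN.1 A) (n + 1) (0 + 1) ▸ Ideal.mul_mem_mul ha hb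

/-- A module killed by the first ideal lives on the bottom level. -/
theorem isIso_unitL (h : KilledM hN M 0) : IsIso (unitL hN M 0) := by
  haveI : Mono (unitL hN M 0) := Preadditive.mono_of_kernel_zero <| by
    refine SheafOfModules.Hom.ext (PresheafOfModules.hom_ext fun U => ModuleCat.hom_ext (LinearMap.ext fun y => ?_))
    obtain ⟨U⟩ := U
    refine sect_ext M (affSieve U) (affSieve_mem U) fun W l hl => ?_
    obtain ⟨A, hA, h1, h2⟩ := hl
    rw [show l = homOfLE h1 ≫ homOfLE h2 from Subsingleton.elim _ _, smap_comp, smap_comp]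
    refine congrArg (smap M (homOfLE h1)) ?_
    refine (app_smap (kernel.ι (unitL hN M 0)) (homOfLE h2) y).symm.trans (Eq.trans ?_ (map_zero _).symm)
    generalize smap (kernel (unitL hN M 0)) (homOfLE h2) y = z
    let x : FSec hN M A := (kernel.ι (unitL hN M 0)).val.app (op A) z
    have hx : x ∈ defIdeal 𝔛 hN.1 A ^ (0 + 1) • (⊤ : Submodule (AV 𝔛 hN.1 A) (FSec hN M A)) :=
      (ker_unitL hN hA 0 x).1 (ModFlat16.app_smap_comp_zero _ (unitL hN M 0) (kernel.condition _) z)
    show x = 0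
    refine Submodule.smul_induction_on (p := fun x => x = 0) hx (fun b hb m _ => ?_)
      fun x y hx hy => by rw [hx, hy, add_zero]
    refine smul_eq_zero_of_prj (h A m) ((RingHom.mem_ker).1 ?_)
    rw [(structure_AV hN hA).2.2 0]
    exact hb
  exact isIso_of_mono_of_epi _

/-- Dévissage of coherent torsion modules to the bottom level. -/
theorem coh_tors_induction [CompactSpace (𝔛.X 0)] (P : ObjectProperty (FSch.ModF 𝔛 hN.1))
    [P.IsClosedUnderIsomorphisms] (hbase : ∀ G : (𝔛.X 0).Modules, Coh.IsCoh G → P (jPush hN 0 G))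
    (hext : ∀ S : ShortComplex (FSch.ModF 𝔛 hN.1), S.ShortExact → P S.X₁ → P S.X₃ → P S.X₂)
    (hT : FTors.IsTors (fam hN) M) : P M := by
  obtain ⟨n, hn⟩ := exists_killedM hN M hT
  clear hT
  rename_i inst
  induction n generalizing M with
  | zero =>
    haveI := isIso_unitL hN M hn
    exact P.prop_of_iso (asIso (unitL hN M 0)).symm (hbase _ (isCoh_sysL hN M 0))
  | succ n ih =>
    haveI : Coh.IsQCoh (PL hN M 0) := (isCoh_sysL hN M 0).1
    haveI := isCohF_jPush hN 0 (PL hN M 0) (isCoh_sysL hN M 0)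
    haveI := isFinitePresentation_kernel (hN := hN) (unitL hN M 0)
    refine hext (ShortComplex.mk _ _ (kernel.condition (unitL hN M 0)))
      { exact := ShortComplex.exact_of_f_is_kernel _ (kernelIsKernel _) } (ih _ (killedM_kernel hN M hn)) ?_
    exact hbase _ (isCoh_sysL hN M 0)

end Groth.Agent.FTorsH7
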