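import Groth.Agent.Lib.FTorsH7.QIso
import Groth.Agent.Lib.FormalModH7.QLift
import Groth.Agent.Lib.FormalModH7.Glue
import Groth.Agent.Lib.FormalModH7.Cech1

/-!
# Sections of quasi-coherent torsion modules on distinguished opens are localisations
-/

set_option autoImplicit false
set_option linter.style.haveILetI false
set_option linter.unusedSectionVars false
set_option backward.isDefEq.respectTransparency false
set_option backward.isDefEq.respectTransparency.types false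
universe u

open CategoryTheory CategoryTheory.Limits AlgebraicGeometry Opposite TopologicalSpace

noncomputable section

namespace Groth.Agent.FTorsH7

open FormalModH7 ModFlat16

variable {𝔛 : FSch.Sys.{u}} {hN : 𝔛.IsLocNoethFormal} {V : (𝔛.X 0).Opens} (hV : IsAffineOpen V)

/-- The algebra of sections of a level on a smaller open. -/
abbrev algLV {W : (𝔛.X 0).Opens} (i : W ≤ V) (n : ℕ) : Algebra (LV 𝔛 hN.1 n V) (LV 𝔛 hN.1 n W) :=
  (rL hN.1 i n).toAlgebra

include hV in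
theorem isLocalization_fD (f : AV 𝔛 hN.1 V) (n : ℕ) :
    letI := algLV (hN := hN) (fD_le hN f) n
    IsLocalization.Away (prj 𝔛 hN.1 V n f) (LV 𝔛 hN.1 n (fD hN f)) :=
  (isAffineOpen_lvU hN hV n).isLocalization_of_eq_basicOpen (prj 𝔛 hN.1 V n f)
    (homOfLE (lvU_mono hN.1 (fD_le hN f) n)) (lvU_fD hN n f)

include hV in
theorem isUnit_prj_fD (f : AV 𝔛 hN.1 V) (n : ℕ) :
    IsUnit (prj 𝔛 hN.1 (fD hN f) n (rA hN.1 (fD_le hN f) f)) := by
  letI := algLV (hN := hN) (fD_le hN f) n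
  haveI := isLocalization_fD (hN := hN) hV f n
  rw [prj_rA]
  exact IsLocalization.Away.algebraMap_isUnit (prj 𝔛 hN.1 V n f)

include hV in
/-- Numerators of functions on a distinguished open, modulo a level. -/
theorem exists_num_fD (f : AV 𝔛 hN.1 V) (n : ℕ) {ι : Type*} [Fintype ι] (c : ι → AV 𝔛 hN.1 (fD hN f)) :
    ∃ (N : ℕ) (b : ι → AV 𝔛 hN.1 V), ∀ i,
      prj 𝔛 hN.1 (fD hN f) n (rA hN.1 (fD_le hN f) f ^ N * c i - rA hN.1 (fD_le hN f) (b i)) = 0 := by
  classical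
  letI := algLV (hN := hN) (fD_le hN f) n
  haveI := isLocalization_fD (hN := hN) hV f n
  obtain ⟨⟨v, N, rfl⟩, hv⟩ := IsLocalization.exist_integer_multiples (Submonoid.powers (prj 𝔛 hN.1 V n f))
    Finset.univ fun i => prj 𝔛 hN.1 (fD hN f) n (c i)
  choose b hb using fun i => hv i (Finset.mem_univ i)
  choose b' hb' using fun i => prj_surjective hN hV n (b i)
  refine ⟨N, b', fun i => ?_⟩
  rw [map_sub, map_mul, map_pow, prj_rA, prj_rA, hb', sub_eq_zero]
  rw [← map_pow]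
  exact ((hb i).trans (Algebra.smul_def _ _)).symm

include hV in
/-- An element is in the radical of an ideal at a level if the ideal is locally trivial on its distinguished open. -/
theorem exists_pow_sub_mem (f : AV 𝔛 hN.1 V) (n : ℕ) {κ : Type*} [Fintype κ] (a : κ → AV 𝔛 hN.1 V)
    (h : ∀ x ∈ fD hN f, ∃ (W : (𝔛.X 0).Opens) (e : W ≤ fD hN f), x ∈ W ∧
      ∃ d : κ → LV 𝔛 hN.1 n W, 1 = ∑ r, d r * prj 𝔛 hN.1 W n (rA hN.1 (e.trans (fD_le hN f)) (a r))) :
    ∃ (K : ℕ) (d : κ → AV 𝔛 hN.1 V), prj 𝔛 hN.1 V n (f ^ K - ∑ r, d r * a r) = 0 := by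
  classical
  letI := algLV (hN := hN) (fD_le hN f) n
  haveI := isLocalization_fD (hN := hN) hV f n
  let R : κ → PUnit.{1} → LV 𝔛 hN.1 n V := fun r _ => prj 𝔛 hN.1 V n (a r)
  have h1 : (fun _ : PUnit.{1} => (1 : LV 𝔛 hN.1 n (fD hN f))) ∈ Submodule.span (LV 𝔛 hN.1 n (fD hN f))
      (Set.range fun r (_ : PUnit.{1}) => rL hN.1 (fD_le hN f) n (prj 𝔛 hN.1 V n (a r))) := by
    refine mem_span_of_locally (isAffineOpen_lvU hN (isAffineOpen_fD hN hV f) n) _ _ fun y hy => ?_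
    obtain ⟨W, e, hxW, d, hd⟩ := h ((𝔛.gInv hN.1 n).hom y) hy
    refine ⟨𝔛.lvU hN.1 n W, lvU_mono hN.1 e n, hxW, d, fun _ => ?_⟩
    show rL hN.1 e n 1 = _
    rw [map_one]
    refine hd.trans (Finset.sum_congr rfl fun r _ => congrArg (d r * ·) ?_)
    show _ = rL hN.1 e n (rL hN.1 (fD_le hN f) n (prj 𝔛 hN.1 V n (a r)))
    rw [← prj_rA, ← prj_rA, rA_comp]
  obtain ⟨K, hK⟩ := exists_pow_smul_mem (S := LV 𝔛 hN.1 n (fD hN f)) R (prj 𝔛 hN.1 V n f) (fun _ => 1)
    (mem_span_congr h1 (fun _ => map_one _) fun r _ => rfl)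
  obtain ⟨d, hd⟩ := (Submodule.mem_span_range_iff_exists_fun (LV 𝔛 hN.1 n V)).1 hK
  choose d' hd' using fun r => prj_surjective hN hV n (d r)
  refine ⟨K, d', ?_⟩
  have h2 := congrFun hd PUnit.unit
  simp only [Finset.sum_apply, Pi.smul_apply, smul_eq_mul, mul_one, R] at h2
  rw [map_sub, map_pow, map_sum, ← h2, sub_eq_zero]
  exact Finset.sum_congr rfl fun r _ => by rw [map_mul, hd']

variable {M : FSch.ModF 𝔛 hN.1}

theorem smul_eq_zero_of_prj {W : (𝔛.X 0).Opens} {n : ℕ} {s : FSec hN M W}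
    (hs : FTors.KilledBy (fam hN) M n s) {a : AV 𝔛 hN.1 W} (ha : prj 𝔛 hN.1 W n a = 0) : a • s = 0 := by
  have h := hs (𝟙 W) a ha
  rwa [FTors.res_id] at h

theorem killedBy_of_cover {W : (𝔛.X 0).Opens} {n : ℕ} {s : FSec hN M W} {S : Sieve W}
    (hS : S ∈ Opens.grothendieckTopology (𝔛.X 0) W)
    (h : ∀ ⦃W' : (𝔛.X 0).Opens⦄ (l : W' ⟶ W), S l → FTors.KilledBy (fam hN) M n (smap M l s)) :
    FTors.KilledBy (fam hN) M n s := fun W' k a ha => by
  refine sect_ext M (S.pullback k) ((Opens.grothendieckTopology (𝔛.X 0)).pullback_stable k hS) fun W'' l hl => ?_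
  rw [map_zero, smap_smul]
  have h1 := h _ hl (𝟙 W'') (rmap (𝔛.Osh hN.1) l a) ((fam hN).map_mem n l ha)
  rw [FTors.res_id, smap_comp] at h1
  exact h1

/-- Torsion sections over quasi-compact opens are killed by one ideal. -/
theorem exists_killedBy_of_compact {W : (𝔛.X 0).Opens} (hW : IsCompact (W : Set (𝔛.X 0))) {s : FSec hN M W}
    (hs : FTors.IsTorsSect (fam hN) M s) : ∃ n, FTors.KilledBy (fam hN) M n s := by
  classical
  choose W' l hl hxW' using fun x : (W : Set (𝔛.X 0)) => hs x.1 x.2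
  choose n hn using hl
  obtain ⟨G, hG⟩ := hW.elim_finite_subcover (fun x : (W : Set (𝔛.X 0)) => (W' x : Set (𝔛.X 0))) (fun x => (W' x).2)
    fun x hx => Set.mem_iUnion.2 ⟨⟨x, hx⟩, hxW' _⟩
  refine ⟨G.sup n, killedBy_of_cover (S := Sieve.generate (Presieve.ofArrows (fun x : G => W' x.1) fun x => l x.1))
    (fun x hx => ?_) fun B b hb => ?_⟩
  · obtain ⟨y, hy, hxy⟩ := Set.mem_iUnion₂.1 (hG hx)
    exact ⟨_, l y, Sieve.le_generate _ _ _ (Presieve.ofArrows.mk (⟨y, hy⟩ : G)), hxy⟩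
  · obtain ⟨B', b₁, b₂, ⟨y⟩, rfl⟩ := hb
    rw [smap_comp]
    exact ((hn y.1).mono (Finset.le_sup y.2)).res b₁

theorem exists_killedBy_family (hT : FTors.IsTors (fam hN) M) {W : (𝔛.X 0).Opens}
    (hW : IsCompact (W : Set (𝔛.X 0))) {ι : Type*} [Fintype ι] (s : ι → FSec hN M W) :
    ∃ n, ∀ i, FTors.KilledBy (fam hN) M n (s i) := by
  choose n hn using fun i => exists_killedBy_of_compact hW (hT W (s i))
  exact ⟨Finset.univ.sup n, fun i => (hn i).mono (Finset.le_sup (Finset.mem_univ i))⟩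

variable (hT : FTors.IsTors (fam hN) M) {X₀ : (𝔛.X 0).Opens} (hVX : V ≤ X₀)
  (P : SheafOfModules.Presentation ((ModSite.restr (𝔛.Osh hN.1) X₀).obj M))

include hV hT hVX P in
/-- A section which is a combination on a distinguished open is one after multiplying by a power of the
function. -/
theorem exists_pow_smul_mem_span {ι : Type u} [Fintype ι] (s : FSec hN M V) (t : ι → FSec hN M V) (f : AV 𝔛 hN.1 V)
    (h : ∀ x ∈ fD hN f, ∃ (W : (𝔛.X 0).Opens) (e : W ≤ fD hN f), x ∈ W ∧ ∃ c : ι → AV 𝔛 hN.1 W,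
      rF hN M (e.trans (fD_le hN f)) s = ∑ i, c i • rF hN M (e.trans (fD_le hN f)) (t i)) :
    ∃ K : ℕ, f ^ K • s ∈ Submodule.span (AV 𝔛 hN.1 V) (Set.range t) := by
  classical
  let u : Option ι → FSec hN M V := fun o => o.elim s t
  obtain ⟨T, hR⟩ := exists_rels hN hV hVX P u fun i => exists_lift_gX hN hV hVX P _
  obtain ⟨n, hn⟩ := exists_killedBy_of_compact hV.isCompact (hT V s)
  obtain ⟨K, d, hd⟩ := exists_pow_sub_mem (hN := hN) hV f n (fun r : T => r.1 none) fun x hx => by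
    obtain ⟨W, e, hxW, c, hc⟩ := h x hx
    obtain ⟨U, hU, hxU, hUW⟩ := exists_isAffineOpen_mem_and_subset (U := W) hxW
    have hUV : U ≤ V := hUW.trans (e.trans (fD_le hN f))
    have hmem := mem_span_of_rels (𝔉 := M) (t := u) hN hU hUV hR
      (fun o : Option ι => (o.elim 1 fun i => -rA hN.1 hUW (c i) : AV 𝔛 hN.1 U)) (by
        rw [Fintype.sum_option]
        simp only [Option.elim, u, one_smul, neg_smul, Finset.sum_neg_distrib]
        rw [← sub_eq_add_neg, sub_eq_zero]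
        have h1 := congrArg (rF hN M hUW) hc
        rw [rF_rF, map_sum] at h1
        refine h1.trans (Finset.sum_congr rfl fun i _ => ?_)
        have h2 : rF hN M hUW (c i • rF hN M (e.trans (fD_le hN f)) (t i)) =
            rA hN.1 hUW (c i) • rF hN M hUW (rF hN M (e.trans (fD_le hN f)) (t i)) := smap_smul _ _ _
        exact h2.trans (congrArg (rA hN.1 hUW (c i) • ·) (rF_rF _ hUW (t i))))
    obtain ⟨d, hd⟩ := (Submodule.mem_span_range_iff_exists_fun (AV 𝔛 hN.1 U)).1 hmem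
    refine ⟨U, hUW.trans e, hxU, fun r => prj 𝔛 hN.1 U n (d r), ?_⟩
    have h2 := congrArg (prj 𝔛 hN.1 U n) (congrFun hd none)
    simp only [Finset.sum_apply, Pi.smul_apply, smul_eq_mul, map_sum, map_mul, Option.elim, map_one] at h2
    exact h2.symm
  refine ⟨K, ?_⟩
  have h0 : (f ^ K - ∑ r, d r * r.1 none) • s = 0 := smul_eq_zero_of_prj hn hd
  rw [sub_smul, sub_eq_zero] at h0
  rw [h0, Finset.sum_smul]
  refine Submodule.sum_mem _ fun r _ => ?_
  rw [mul_smul]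
  refine Submodule.smul_mem _ _ ?_
  have h3 := hR.1 r
  rw [Fintype.sum_option] at h3
  have h4 : r.1 none • s = -∑ i, r.1 (some i) • t i := eq_neg_of_add_eq_zero_left h3
  rw [h4]
  exact Submodule.neg_mem _ (Submodule.sum_mem _ fun i _ => Submodule.smul_mem _ _ (Submodule.subset_span ⟨i, rfl⟩))

include hV hT hVX P in
theorem exists_pow_smul_eq_zero (s : FSec hN M V) (f : AV 𝔛 hN.1 V) (h : rF hN M (fD_le hN f) s = 0) :
    ∃ K : ℕ, f ^ K • s = 0 := by
  obtain ⟨K, hK⟩ := exists_pow_smul_mem_span hV hT hVX P (ι := PEmpty.{u + 1}) s PEmpty.elim f fun x hx =>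
    ⟨fD hN f, le_rfl, hx, PEmpty.elim, by rw [Finset.univ_eq_empty, Finset.sum_empty]; exact h⟩
  rw [Set.range_eq_empty, Submodule.span_empty] at hK
  exact ⟨K, hK⟩

set_option maxHeartbeats 1000000 in
include hV hT hVX P in
/-- A section on a distinguished open extends after multiplying by a power of the function. -/
theorem exists_pow_smul_eq_res (f : AV 𝔛 hN.1 V) (t : FSec hN M (fD hN f)) :
    ∃ (K : ℕ) (m : FSec hN M V), rF hN M (fD_le hN f) m = rA hN.1 (fD_le hN f) f ^ K • t := by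
  classical
  obtain ⟨n₀, hn₀⟩ := exists_killedBy_of_compact (isAffineOpen_fD hN hV f).isCompact (hT _ t)
  have hloc : ∀ x : (fD hN f : Set (𝔛.X 0)), ∃ (h : AV 𝔛 hN.1 V) (e : fD hN h ≤ fD hN f), x.1 ∈ fD hN h ∧
      ∃ (N : ℕ) (m : FSec hN M V),
        rF hN M (fD_le hN h) m = rA hN.1 (fD_le hN h) h ^ N • rF hN M e t := fun x => by
    obtain ⟨S, hS, hg⟩ := genF_gX hN hVX P (homOfLE (fD_le hN f)) t
    obtain ⟨W, l, hl, hxW⟩ := hS x.1 x.2
    obtain ⟨F, c, hc⟩ := hg l hl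
    obtain ⟨h, hh, hxh⟩ := exists_fD_le hN hV (fD_le hN f x.2) hxW
    obtain ⟨n, hn⟩ := exists_killedBy_family hT hV.isCompact fun j : F => gX hN hVX P j.1
    obtain ⟨N, b, hb⟩ := exists_num_fD (hN := hN) hV h n fun j : F => rA hN.1 hh (c j.1)
    refine ⟨h, hh.trans (leOfHom l), hxh, N, ∑ j : F, b j • gX hN hVX P j.1, ?_⟩
    have hcg : rF hN M (hh.trans (leOfHom l)) t =
        ∑ j : F, rA hN.1 hh (c j.1) • rF hN M (fD_le hN h) (gX hN hVX P j.1) := by
      refine (rF_rF (leOfHom l) hh t).symm.trans ?_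
      show rF hN M hh (smap M l t) = _
      rw [hc, Finset.sum_coe_sort F fun j => rA hN.1 hh (c j) • rF hN M (fD_le hN h) (gX hN hVX P j), map_sum]
      refine Finset.sum_congr rfl fun j _ => (smap_smul (homOfLE hh) _ _).trans (congrArg (_ • ·) ?_)
      exact rF_rF _ hh _
    rw [hcg, map_sum, Finset.smul_sum]
    refine Finset.sum_congr rfl fun j _ => ?_
    rw [smap_smul, smul_smul]
    have h0 := smul_eq_zero_of_prj ((hn j).res (homOfLE (fD_le hN h))) (hb j)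
    rw [sub_smul, sub_eq_zero] at h0
    exact h0.symm
  choose h e hxh N₁ m₁ hm₁ using hloc
  obtain ⟨G, hG⟩ := (isAffineOpen_fD hN hV f).isCompact.elim_finite_subcover
    (fun x : (fD hN f : Set (𝔛.X 0)) => (fD hN (h x) : Set (𝔛.X 0))) (fun x => (fD hN (h x)).2)
    fun x hx => Set.mem_iUnion.2 ⟨⟨x, hx⟩, hxh _⟩
  let N := G.sup N₁
  let m : G → FSec hN M V := fun i => h i.1 ^ (N - N₁ i.1) • m₁ i.1
  have hm : ∀ i : G, rF hN M (fD_le hN (h i.1)) (m i) =
      rA hN.1 (fD_le hN (h i.1)) (h i.1) ^ N • rF hN M (e i.1) t := fun i => by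
    refine (smap_smul _ _ _).trans ?_
    refine (congrArg₂ (· • ·) (map_pow (rA hN.1 (fD_le hN (h i.1))) _ _) (hm₁ i.1)).trans ?_
    rw [← mul_smul, ← pow_add, Nat.sub_add_cancel (Finset.le_sup i.2)]
  have hL : ∀ i j : G, ∃ L : ℕ, (h i.1 * h j.1) ^ L • (h j.1 ^ N • m i - h i.1 ^ N • m j) = 0 := fun i j => by
    refine exists_pow_smul_eq_zero hV hT hVX P _ _ ?_
    have l₁ := fD_mul_le_left hN (h i.1) (h j.1)
    have l₂ := fD_mul_le_right hN (h i.1) (h j.1)
    have e₁ : rF hN M (l₁.trans (fD_le hN (h i.1))) (m i) =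
        rA hN.1 (l₁.trans (fD_le hN (h i.1))) (h i.1) ^ N • rF hN M (l₁.trans (e i.1)) t := by
      rw [← rF_rF (fD_le hN (h i.1)) l₁, hm i]
      refine (smap_smul _ _ _).trans ?_
      refine congrArg₂ (· • ·) ?_ (rF_rF _ _ t)
      exact (map_pow (rA hN.1 l₁) _ _).trans (congrArg (· ^ N) (rA_comp hN.1 _ _ _))
    have e₂ : rF hN M (l₂.trans (fD_le hN (h j.1))) (m j) =
        rA hN.1 (l₂.trans (fD_le hN (h j.1))) (h j.1) ^ N • rF hN M (l₂.trans (e j.1)) t := by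
      rw [← rF_rF (fD_le hN (h j.1)) l₂, hm j]
      refine (smap_smul _ _ _).trans ?_
      refine congrArg₂ (· • ·) ?_ (rF_rF _ _ t)
      exact (map_pow (rA hN.1 l₂) _ _).trans (congrArg (· ^ N) (rA_comp hN.1 _ _ _))
    have le := fD_le hN (h i.1 * h j.1)
    have es : ∀ (c : AV 𝔛 hN.1 V) (z : FSec hN M V),
        rF hN M le (c ^ N • z) = rA hN.1 le c ^ N • rF hN M le z := fun c z =>
      (smap_smul _ _ _).trans (congrArg (· • _) (map_pow (rA hN.1 le) _ _))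
    rw [map_sub, es, es, e₁, e₂, smul_comm, sub_self]
  choose L₁ hL₁ using hL
  let L := Finset.univ.sup fun p : G × G => L₁ p.1 p.2
  let a : G → FSec hN M V := fun i => h i.1 ^ L • m i
  have ha : ∀ i j : G, h j.1 ^ (N + L) • a i = h i.1 ^ (N + L) • a j := fun i j => by
    obtain ⟨d, hd⟩ := Nat.exists_eq_add_of_le (Finset.le_sup (f := fun p : G × G => L₁ p.1 p.2) (Finset.mem_univ (i, j)))
    have h1 := congrArg ((h i.1 * h j.1) ^ d • ·) (hL₁ i j)
    replace h1 : (h i.1 * h j.1) ^ d • (h i.1 * h j.1) ^ L₁ i j • (h j.1 ^ N • m i - h i.1 ^ N • m j) =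
        (h i.1 * h j.1) ^ d • (0 : FSec hN M V) := h1
    rw [← mul_smul, ← pow_add, add_comm, ← hd, smul_zero, smul_sub, sub_eq_zero] at h1
    show _ ^ (N + L) • h i.1 ^ L • m i = _ ^ (N + L) • h j.1 ^ L • m j
    simp only [← mul_smul] at h1 ⊢
    refine Eq.trans ?_ (h1.trans ?_)
    · refine congrArg (fun z : AV 𝔛 hN.1 V => z • m i) ?_
      show _ = (h i.1 * h j.1) ^ L * h j.1 ^ N
      ring
    · refine congrArg (fun z : AV 𝔛 hN.1 V => z • m j) ?_
      show (h i.1 * h j.1) ^ L * h i.1 ^ N = _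
      ring
  obtain ⟨n₁, hn₁⟩ := exists_killedBy_family hT hV.isCompact a
  let n := max n₀ n₁
  obtain ⟨K, d, hd⟩ := exists_pow_sub_mem (hN := hN) hV f n (fun i : G => h i.1 ^ (N + L)) fun x hx => by
    obtain ⟨i, hi, hxi⟩ := Set.mem_iUnion₂.1 (hG hx)
    refine ⟨fD hN (h i), e i, hxi, Pi.single ⟨i, hi⟩ ↑((isUnit_prj_fD (hN := hN) hV (h i) n).pow (N + L)).unit⁻¹, ?_⟩
    rw [Finset.sum_eq_single ⟨i, hi⟩ (fun q _ hq => by rw [Pi.single_eq_of_ne hq, zero_mul])
      (fun hq => absurd (Finset.mem_univ _) hq), Pi.single_eq_same, map_pow, map_pow, IsUnit.val_inv_mul]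
  refine ⟨K, ∑ i, d i • a i, ?_⟩
  refine sect_ext M (Sieve.generate (Presieve.ofArrows (fun i : G => fD hN (h i.1)) fun i => homOfLE (e i.1)))
    (fun x hx => ?_) fun B b hb => ?_
  · obtain ⟨i, hi, hxi⟩ := Set.mem_iUnion₂.1 (hG hx)
    exact ⟨_, homOfLE (e i), Sieve.le_generate _ _ _ (Presieve.ofArrows.mk (⟨i, hi⟩ : G)), hxi⟩
  obtain ⟨B', b₁, b₂, ⟨j⟩, rfl⟩ := hb
  rw [smap_comp, smap_comp]
  refine congrArg (smap M b₁) ?_
  let D := fD hN (h j.1)
  let H := rA hN.1 (fD_le hN (h j.1)) (h j.1)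
  have haj : rF hN M (fD_le hN (h j.1)) (a j) = H ^ (N + L) • rF hN M (e j.1) t := by
    refine (smap_smul _ _ _).trans ?_
    refine (congrArg₂ (· • ·) (map_pow (rA hN.1 (fD_le hN (h j.1))) _ _) (hm j)).trans ?_
    rw [← mul_smul, ← pow_add, add_comm L N]
  let F := rA hN.1 (fD_le hN (h j.1)) f
  have hfk : rF hN M (fD_le hN (h j.1)) (f ^ K • a j) = F ^ K • H ^ (N + L) • rF hN M (e j.1) t := by
    refine (smap_smul _ _ _).trans ?_
    exact congrArg₂ (· • ·) (map_pow (rA hN.1 (fD_le hN (h j.1))) _ _) haj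
  have hjm : h j.1 ^ (N + L) • ∑ i, d i • a i = f ^ K • a j := by
    have h0 : (f ^ K - ∑ r, d r * h r.1 ^ (N + L)) • a j = 0 :=
      smul_eq_zero_of_prj ((hn₁ j).mono (le_max_right _ _)) hd
    rw [sub_smul, sub_eq_zero] at h0
    rw [h0, Finset.sum_smul, Finset.smul_sum]
    exact Finset.sum_congr rfl fun i _ => by rw [smul_comm, ha, mul_smul]
  have hz : H ^ (N + L) • (rF hN M (fD_le hN (h j.1)) (∑ i, d i • a i) - F ^ K • rF hN M (e j.1) t) = 0 := by
    rw [smul_sub, sub_eq_zero, smul_comm (H ^ (N + L)) (F ^ K), ← hfk, ← hjm]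
    refine ((smap_smul _ _ _).trans (congrArg (· • _) ?_)).symm
    exact map_pow (rA hN.1 (fD_le hN (h j.1))) _ _
  obtain ⟨w, hw⟩ := prj_surjective hN (isAffineOpen_fD hN hV (h j.1)) n
    ↑((isUnit_prj_fD (hN := hN) hV (h j.1) n).pow (N + L)).unit⁻¹
  have hk : FTors.KilledBy (fam hN) M n (rF hN M (fD_le hN (h j.1)) (∑ i, d i • a i) - F ^ K • rF hN M (e j.1) t) := by
    rw [sub_eq_add_neg, ← neg_one_smul (AV 𝔛 hN.1 (fD hN (h j.1))) (F ^ K • rF hN M (e j.1) t), smul_smul]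
    refine FTors.KilledBy.add ?_ (FTors.KilledBy.smul _ ((hn₀.mono (le_max_left _ _)).res _))
    refine FTors.KilledBy.res _ ?_
    exact Finset.sum_induction _ (fun z => FTors.KilledBy (fam hN) M n z) (fun _ _ h1 h2 => h1.add h2)
      (FTors.KilledBy.zero _ _ _ _) fun i _ => ((hn₁ i).mono (le_max_right _ _)).smul _
  have h0 := smul_eq_zero_of_prj hk (a := w * H ^ (N + L) - 1) (by
    rw [map_sub, map_mul, map_pow, map_one, hw, IsUnit.val_inv_mul, sub_self])
  rw [sub_smul, one_smul, mul_smul, hz, smul_zero, zero_sub, neg_eq_zero, sub_eq_zero] at h0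
  refine (rF_rF (fD_le hN f) (e j.1) _).trans (h0.trans ?_)
  refine ((smap_smul _ _ _).trans (congrArg (· • _) ?_)).symm
  rw [map_pow]
  exact congrArg (· ^ K) (rA_comp hN.1 _ _ _)

end Groth.Agent.FTorsH7
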