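import Groth.Agent.Lib.FTorsH7.Extend

/-!
# Finitely generated submodules of quasi-coherent torsion modules extend to the whole formal scheme
-/

set_option autoImplicit false
set_option linter.style.haveILetI false
set_option linter.unusedSectionVars false
set_option backward.isDefEq.respectTransparency false
set_option backward.isDefEq.respectTransparency.types false
universe u

open CategoryTheory CategoryTheory.Limits AlgebraicGeometry Opposite TopologicalSpace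

noncomputable section

namespace Groth.Agent.FTorsH7

open FormalModH7 ModFlat16

variable {𝔛 : FSch.Sys.{u}} {hN : 𝔛.IsLocNoethFormal} {M : FSch.ModF 𝔛 hN.1}

theorem span_image_le {U : (𝔛.X 0).Opens} {S : Finset (FSec hN M U)} {G : (𝔛.X 0).Opens} (l : G ≤ U)
    (Q : Submodule (AV 𝔛 hN.1 G) (FSec hN M G)) (h : ∀ t ∈ S, rF hN M l t ∈ Q) :
    Submodule.span (AV 𝔛 hN.1 G) (rF hN M l '' (S : Set (FSec hN M U))) ≤ Q :=
  Submodule.span_le.2 (by rintro _ ⟨t, ht, rfl⟩; exact h t ht)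

theorem LocComb.mem {P : Part hN M} {U G : (𝔛.X 0).Opens} {l : G ≤ U} {H : Finset (FSec hN M U)}
    (hH : ∀ h ∈ H, h ∈ P.p U) {m : FSec hN M G} (h : LocComb l H m) : m ∈ P.p G :=
  P.loc m fun x hx => by
    obtain ⟨G', e, hx', hm⟩ := h x hx
    exact ⟨G', e, hx', span_image_le _ _ (fun t ht => P.res _ t (hH t ht)) hm⟩

variable (hT : FTors.IsTors (fam hN) M)

/-- An affine open around a point inside the open of a presentation. -/
theorem exists_pres_affine [SheafOfModules.IsQuasicoherent.{u} M] {U : (𝔛.X 0).Opens} {x : 𝔛.X 0} (hx : x ∈ U) :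
    ∃ (V X₀ : (𝔛.X 0).Opens), IsAffineOpen V ∧ x ∈ V ∧ V ≤ U ∧ V ≤ X₀ ∧
      Nonempty (SheafOfModules.Presentation ((ModSite.restr (𝔛.Osh hN.1) X₀).obj M)) := by
  obtain ⟨q⟩ := SheafOfModules.IsQuasicoherent.nonempty_quasicoherentData (M := M)
  obtain ⟨W, k, ⟨i, ⟨g⟩⟩, hxW⟩ := q.coversTop U x hx
  obtain ⟨V, hV, hxV, hle⟩ := exists_isAffineOpen_mem_and_subset (U := W) hxW
  exact ⟨V, q.X i, hV, hxV, hle.trans (leOfHom k), hle.trans (leOfHom g), ⟨q.presentation i⟩⟩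

set_option maxHeartbeats 1000000 in
include hT in
/-- Sections over an affine open generate a partial submodule on its trace. -/
theorem exists_gens_affine (P : Part hN M) {U X₀ : (𝔛.X 0).Opens} (hU : IsAffineOpen U) (hUX : U ≤ X₀)
    (Pr : SheafOfModules.Presentation ((ModSite.restr (𝔛.Osh hN.1) X₀).obj M)) :
    ∃ H : Finset (FSec hN M U), (∀ h ∈ H, h ∈ P.p U) ∧
      ∀ ⦃G : (𝔛.X 0).Opens⦄ (l : G ≤ U), G ≤ P.W → ∀ m : FSec hN M G, m ∈ P.p G → LocComb l H m := by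
  classical
  have hW : IsCompact ((U ⊓ P.W : (𝔛.X 0).Opens) : Set (𝔛.X 0)) := isCompact_le_affine (hN := hN) hU inf_le_left
  have hcov : ∀ x : ((U ⊓ P.W : (𝔛.X 0).Opens) : Set (𝔛.X 0)), ∃ V : (𝔛.X 0).Opens, IsAffineOpen V ∧ x.1 ∈ V ∧
      V ≤ U ⊓ P.W ∧ ∃ T : Finset (FSec hN M V), (∀ t ∈ T, t ∈ P.p V) ∧
        ∀ ⦃G : (𝔛.X 0).Opens⦄ (l : G ≤ V) (m : FSec hN M G), m ∈ P.p G → LocComb l T m := fun x => by
    obtain ⟨V, hxV, hVW, T, hT₁, hT₂⟩ := P.gens x.1 x.2.2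
    obtain ⟨V', hV', hxV', hle⟩ := exists_isAffineOpen_mem_and_subset (U := U ⊓ V) (x := x.1) ⟨x.2.1, hxV⟩
    refine ⟨V', hV', hxV', le_inf (hle.trans inf_le_left) ((hle.trans inf_le_right).trans hVW),
      T.image (rF hN M (hle.trans inf_le_right)), fun t ht => ?_, fun G l m hm y hy => ?_⟩
    · obtain ⟨s, hs, rfl⟩ := Finset.mem_image.1 ht
      exact P.res _ s (hT₁ s hs)
    · obtain ⟨G', e, hy', hm'⟩ := hT₂ (l.trans (hle.trans inf_le_right)) m hm y hy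
      refine ⟨G', e, hy', Submodule.span_mono ?_ hm'⟩
      rintro _ ⟨s, hs, rfl⟩
      exact ⟨_, Finset.mem_coe.2 (Finset.mem_image_of_mem _ hs), rF_rF _ _ s⟩
  choose V hV hxV hVle T hT₁ hT₂ using hcov
  obtain ⟨C, hC⟩ := hW.elim_finite_subcover (fun x => ((V x : (𝔛.X 0).Opens) : Set (𝔛.X 0))) (fun x => (V x).2)
    fun x hx => Set.mem_iUnion.2 ⟨⟨x, hx⟩, hxV _⟩
  have hloc : ∀ x : ((U ⊓ P.W : (𝔛.X 0).Opens) : Set (𝔛.X 0)), ∃ (D : (𝔛.X 0).Opens) (eU : D ≤ U), x.1 ∈ D ∧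
      ∃ H : Finset (FSec hN M U), (∀ h ∈ H, h ∈ P.p U) ∧
        ∀ ⦃G : (𝔛.X 0).Opens⦄ (l : G ≤ D) (m : FSec hN M G), m ∈ P.p G → LocComb (l.trans eU) H m := fun x => by
    obtain ⟨f, hf, hxf⟩ := exists_fD_le hN hU (W := V x) x.2.1 (hxV x)
    choose K₀ m₀ hm₀ using fun a : T x => exists_pow_smul_eq_res hU hT hUX Pr f (rF hN M hf a.1)
    have hL : ∀ (a : T x) (k : C), ∃ L : ℕ, rF hN M ((hVle k.1).trans inf_le_left) (f ^ L • m₀ a) ∈ P.p (V k.1) :=
      fun a k => by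
      have eV : V k.1 ≤ U := (hVle k.1).trans inf_le_left
      have hle : fD hN (rA hN.1 eV f) ≤ fD hN f := fD_rA_le eV f
      have hmem : rF hN M (fD_le hN f) (m₀ a) ∈ P.p (fD hN f) := by
        rw [hm₀ a]
        exact Submodule.smul_mem _ _ (P.res hf _ (hT₁ x a.1 a.2))
      have hmem' : rF hN M (fD_le hN (rA hN.1 eV f)) (rF hN M eV (m₀ a)) ∈ P.p (fD hN (rA hN.1 eV f)) := by
        have h1 := P.res hle _ hmem
        rw [rF_rF] at h1 ⊢
        exact h1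
      obtain ⟨L, hL⟩ := exists_pow_smul_mem_span (hV k.1) hT (eV.trans hUX) Pr (rF hN M eV (m₀ a))
        (fun t : T k.1 => t.1) (rA hN.1 eV f) fun y hy => by
          obtain ⟨G, e, hyG, hG⟩ := hT₂ k.1 (fD_le hN (rA hN.1 eV f)) _ hmem' y hy
          rw [show rF hN M (e.trans (fD_le hN (rA hN.1 eV f))) '' (T k.1 : Set (FSec hN M (V k.1))) =
            Set.range fun t : T k.1 => rF hN M (e.trans (fD_le hN (rA hN.1 eV f))) t.1 by ext; simp] at hG
          obtain ⟨c, hc⟩ := (Submodule.mem_span_range_iff_exists_fun (AV 𝔛 hN.1 G)).1 hG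
          refine ⟨G, e, hyG, c, ?_⟩
          simp only [rF_rF] at hc ⊢
          exact hc.symm
      refine ⟨L, ?_⟩
      have h2 : rF hN M eV (f ^ L • m₀ a) = rA hN.1 eV f ^ L • rF hN M eV (m₀ a) :=
        (smap_smul _ _ _).trans (congrArg (· • _) (map_pow (rA hN.1 eV) _ _))
      rw [h2]
      exact Submodule.span_le.2 (by rintro _ ⟨t, rfl⟩; exact hT₁ k.1 t.1 t.2) hL
    choose L₁ hL₁ using hL
    let L := Finset.univ.sup fun q : T x × C => L₁ q.1 q.2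
    refine ⟨fD hN f, fD_le hN f, hxf, Finset.univ.image fun a => f ^ L • m₀ a, fun h hh => ?_, fun G l m hm => ?_⟩
    · obtain ⟨a, -, rfl⟩ := Finset.mem_image.1 hh
      refine P.sat _ (P.loc _ fun y hy => ?_)
      obtain ⟨k, hk, hyk⟩ := Set.mem_iUnion₂.1 (hC hy)
      refine ⟨V k, hVle k, hyk, ?_⟩
      obtain ⟨d, hd⟩ := Nat.exists_eq_add_of_le (Finset.le_sup (f := fun q : T x × C => L₁ q.1 q.2)
        (Finset.mem_univ (a, ⟨k, hk⟩)))
      rw [rF_rF, show L = L₁ a ⟨k, hk⟩ + d from hd, add_comm, pow_add, mul_smul,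
        show rF hN M ((hVle k).trans inf_le_left) (f ^ d • f ^ L₁ a ⟨k, hk⟩ • m₀ a) =
          rA hN.1 ((hVle k).trans inf_le_left) (f ^ d) • rF hN M ((hVle k).trans inf_le_left) (f ^ L₁ a ⟨k, hk⟩ • m₀ a)
          from smap_smul _ _ _]
      exact Submodule.smul_mem _ _ (hL₁ a ⟨k, hk⟩)
    · intro y hy
      obtain ⟨G', e, hy', hm'⟩ := hT₂ x (l.trans hf) m hm y hy
      refine ⟨G', e, hy', span_image_le _ _ (fun t ht => ?_) hm'⟩
      obtain ⟨n, hn⟩ := exists_killedBy_of_compact (isAffineOpen_fD hN hU f).isCompact (hT _ (rF hN M hf t))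
      obtain ⟨w, hw⟩ := prj_surjective hN (isAffineOpen_fD hN hU f) n
        ↑((isUnit_prj_fD (hN := hN) hU f n).pow (L + K₀ ⟨t, ht⟩)).unit⁻¹
      have h1 : rF hN M hf t = w • rF hN M (fD_le hN f) (f ^ L • m₀ ⟨t, ht⟩) := by
        have e1 : rF hN M (fD_le hN f) (f ^ L • m₀ ⟨t, ht⟩) =
            rA hN.1 (fD_le hN f) f ^ (L + K₀ ⟨t, ht⟩) • rF hN M hf t := by
          refine (smap_smul _ _ _).trans ((congrArg₂ (· • ·) (map_pow (rA hN.1 (fD_le hN f)) _ _) (hm₀ ⟨t, ht⟩)).trans ?_)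
          rw [← mul_smul, ← pow_add]
        have h0 := smul_eq_zero_of_prj hn (a := w * rA hN.1 (fD_le hN f) f ^ (L + K₀ ⟨t, ht⟩) - 1) (by
          rw [map_sub, map_mul, map_pow, map_one, hw, IsUnit.val_inv_mul, sub_self])
        rw [sub_smul, one_smul, sub_eq_zero] at h0
        rw [e1, ← mul_smul, h0]
      have el : G' ≤ fD hN f := e.trans l
      have h2 := congrArg (rF hN M el) h1
      rw [show rF hN M el (w • rF hN M (fD_le hN f) (f ^ L • m₀ ⟨t, ht⟩)) =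
        rA hN.1 el w • rF hN M el (rF hN M (fD_le hN f) (f ^ L • m₀ ⟨t, ht⟩)) from smap_smul _ _ _, rF_rF, rF_rF] at h2
      rw [h2]
      exact Submodule.smul_mem _ _ (Submodule.subset_span
        ⟨_, Finset.mem_coe.2 (Finset.mem_image_of_mem _ (Finset.mem_univ _)), rfl⟩)
  choose D eU hxD H hH₁ hH₂ using hloc
  obtain ⟨C', hC'⟩ := hW.elim_finite_subcover (fun x => ((D x : (𝔛.X 0).Opens) : Set (𝔛.X 0))) (fun x => (D x).2)
    fun x hx => Set.mem_iUnion.2 ⟨⟨x, hx⟩, hxD _⟩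
  refine ⟨C'.biUnion H, fun h hh => ?_, fun G l hGW m hm y hy => ?_⟩
  · obtain ⟨x, -, hh⟩ := Finset.mem_biUnion.1 hh
    exact hH₁ x h hh
  · obtain ⟨x, hx, hyx⟩ := Set.mem_iUnion₂.1 (hC' (show y ∈ U ⊓ P.W from ⟨l hy, hGW hy⟩))
    obtain ⟨G', e, hy', hm'⟩ := hH₂ x (G := G ⊓ D x) inf_le_right (rF hN M inf_le_left m) (P.res _ _ hm) y ⟨hy, hyx⟩
    refine ⟨G', e.trans inf_le_left, hy', ?_⟩
    rw [rF_rF] at hm'
    exact Submodule.span_mono (Set.image_mono (Finset.coe_subset.2 (Finset.subset_biUnion_of_mem H hx))) hm'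

include hT in
/-- A section over an affine open lies in a finitely generated submodule of the whole module. -/
theorem exists_part [SheafOfModules.IsQuasicoherent.{u} M] {V : (𝔛.X 0).Opens} (s : FSec hN M V) :
    ∃ P : Part hN M, P.W = ⊤ ∧ s ∈ P.p V := by
  classical
  let P₁ := (Part.bot M).extend ({s} : Finset (FSec hN M V)) (fun _ _ => Submodule.mem_top)
    fun G l hG m _ x hx => absurd (hG hx) id
  have hs : s ∈ P₁.p V := ⟨Submodule.mem_top, locComb_self (Finset.mem_singleton_self s) _⟩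
  obtain ⟨P, hP, hmax⟩ := zorn_le_nonempty₀ (Set.Ici P₁) (fun c hc hcc Q hQ =>
    ⟨Part.union c hcc, (hc hQ).trans (Part.le_union c hcc Q hQ), fun Q' hQ' => Part.le_union c hcc Q' hQ'⟩)
    P₁ Set.self_mem_Ici
  refine ⟨P, top_unique fun x _ => ?_, ?_⟩
  · obtain ⟨U, X₀, hU, hxU, -, hUX, ⟨Pr⟩⟩ := exists_pres_affine (hN := hN) (M := M) (U := ⊤) (x := x) trivial
    obtain ⟨H, hH, hcov⟩ := exists_gens_affine hT P hU hUX Pr
    have h := hmax.2 (hP.trans (P.le_extend H hH hcov) : P₁ ≤ P.extend H hH hcov) (P.le_extend H hH hcov)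
    exact h.1 (Or.inr hxU)
  · rw [hP.2 V le_sup_right]
    exact hs

end Groth.Agent.FTorsH7
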