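import Groth.Agent.Lib.ModFlat16.LocFT
import Groth.Prelude.Def_FTors
import Mathlib.CategoryTheory.ObjectProperty.FullSubcategory
import Mathlib.CategoryTheory.Abelian.Basic
import Mathlib.Algebra.Homology.ShortComplex.Abelian

/-!
# Torsion modules for a family of ideals: coreflection, and torsion homology
-/

set_option autoImplicit false
set_option linter.style.haveILetI false
set_option linter.unusedSectionVars false
set_option backward.isDefEq.respectTransparency false
set_option backward.isDefEq.respectTransparency.types false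
universe u

open CategoryTheory CategoryTheory.Limits Opposite

noncomputable section

namespace Groth.Agent.FTorsH7

open ModFlat16

variable {C : Type u} [SmallCategory C] {J : GrothendieckTopology C} {O : Sheaf J CommRingCat.{u}}
  (I : FTors.IdealFam O)

theorem killedBy_gamma {M : ModSite.Mod O} {n : ℕ} {U : C} (s : ModSite.sect ((FTors.gamma O I).obj M) U)
    (h : FTors.KilledBy I M n (Subtype.val s)) : FTors.KilledBy I ((FTors.gamma O I).obj M) n s :=
  fun _ l a ha => Subtype.ext (h l a ha)

/-- Torsion sections form a torsion module. -/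
theorem isTors_gamma (M : ModSite.Mod O) : FTors.IsTors I ((FTors.gamma O I).obj M) := fun U s => by
  refine (FTors.IsTorsSect.iff_exists _).2 ⟨_, s.2, fun V l hl => ?_⟩
  obtain ⟨n, hn⟩ := hl
  exact ⟨n, killedBy_gamma I _ hn⟩

variable {I}

theorem isTors_of_mono {M N : ModSite.Mod O} (f : M ⟶ N) [Mono f] (h : FTors.IsTors I N) : FTors.IsTors I M :=
  fun U s => by
    refine (FTors.IsTorsSect.iff_exists _).2 ⟨_, h U (f.val.app (op U) s), fun V l hl => ?_⟩
    obtain ⟨n, hn⟩ := hl
    refine ⟨n, fun W k a ha => sections_injective' f W ?_⟩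
    rw [map_smul, map_zero, ← FTors.res_hom, ← FTors.res_hom]
    exact hn k a ha

theorem isTors_of_iso {M N : ModSite.Mod O} (e : M ≅ N) (h : FTors.IsTors I M) : FTors.IsTors I N :=
  isTors_of_mono e.inv h

instance : (FTors.IsTors I : ObjectProperty (ModSite.Mod O)).IsClosedUnderIsomorphisms where
  of_iso e h := isTors_of_iso e h

/-- A map out of a torsion module lands in the torsion sections. -/
def gammaLift {G M : ModSite.Mod O} (hG : FTors.IsTors I G) (f : G ⟶ M) : G ⟶ (FTors.gamma O I).obj M :=
  ⟨PresheafOfModules.homMk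
    { app := fun X => AddCommGrpCat.ofHom
        { toFun := fun s => ⟨f.val.app X s, (hG X.unop s).hom f⟩
          map_zero' := Subtype.ext (map_zero (f.val.app X).hom)
          map_add' := fun s t => Subtype.ext (map_add (f.val.app X).hom s t) }
      naturality := fun X Y k => by
        ext s
        apply Subtype.ext
        exact (FTors.res_hom G f k.unop s).symm }
    (fun X r s => Subtype.ext ((f.val.app X).hom.map_smul r s))⟩

theorem gammaLift_ι {G M : ModSite.Mod O} (hG : FTors.IsTors I G) (f : G ⟶ M) :
    gammaLift hG f ≫ (FTors.gammaι I).app M = f := by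
  apply SheafOfModules.hom_ext
  ext X s
  rfl

instance mono_gammaι (M : ModSite.Mod O) : Mono ((FTors.gammaι I).app M) :=
  ⟨fun {G} a b h => by
    apply SheafOfModules.hom_ext
    ext X s
    exact Subtype.ext (congrArg (fun q => q.val.app X s) h)⟩

variable (I)

/-- The torsion functor into torsion modules. -/
def gammaF : ModSite.Mod O ⥤ (FTors.IsTors I).FullSubcategory :=
  (FTors.IsTors I).lift (FTors.gamma O I) (isTors_gamma I)

instance : (gammaF I).Additive where
  map_add {M N f g} := ObjectProperty.hom_ext _ ((FTors.gamma O I).map_add)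

/-- The torsion functor is right adjoint to the inclusion. -/
def gammaAdj : (FTors.IsTors I).ι ⊣ gammaF I :=
  Adjunction.mkOfHomEquiv
    { homEquiv := fun G M =>
        { toFun := fun f => ObjectProperty.homMk (gammaLift G.property f)
          invFun := fun h => h.hom ≫ (FTors.gammaι I).app M
          left_inv := fun f => gammaLift_ι G.property f
          right_inv := fun h => ObjectProperty.hom_ext _ ((cancel_mono ((FTors.gammaι I).app M)).1
            (gammaLift_ι G.property _)) }
      homEquiv_naturality_left_symm := fun {G' G M} f g => by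
        show (f ≫ g).hom ≫ _ = f.hom ≫ g.hom ≫ _
        exact Category.assoc _ _ _
      homEquiv_naturality_right := fun {G M M'} f g => by
        refine ObjectProperty.hom_ext _ ((cancel_mono ((FTors.gammaι I).app M')).1 ?_)
        show gammaLift G.property (f ≫ g) ≫ _ = (gammaLift G.property f ≫ (FTors.gamma O I).map g) ≫ _
        rw [gammaLift_ι, Category.assoc, (FTors.gammaι I).naturality g, ← Category.assoc, gammaLift_ι]
        rfl }

theorem gammaAdj_counit (M : ModSite.Mod O) : (gammaAdj I).counit.app M = (FTors.gammaι I).app M :=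
  Category.id_comp _

variable {I}

/-- Cycles of a complex with torsion homology become boundaries after multiplication by local elements of the
ideals. -/
theorem exists_cover_smul_mem {S : ShortComplex (ModSite.Mod O)} (hS : FTors.IsTors I S.homology) {U : C}
    (x : ModSite.sect S.X₂ U) (hx : S.g.val.app (op U) x = 0) :
    ∃ T ∈ J U, ∀ ⦃V : C⦄ (l : V ⟶ U), T l → ∃ n, ∀ a ∈ I.ideal n V,
      ∃ T' ∈ J V, ∀ ⦃W : C⦄ (k : W ⟶ V), T' k →
        ∃ w, S.f.val.app (op W) w = rmap O k a • smap S.X₂ (k ≫ l) x := by
  have h0 : (freeOnHom O U S.X₂).symm x ≫ S.g = 0 := by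
    apply (freeOnHom O U S.X₃).injective
    rw [freeOnHom_comp, Equiv.apply_symm_apply, hx]
    have h0 := freeOnHom_comp O (0 : ModSite.freeOn O U ⟶ S.X₂) (0 : S.X₂ ⟶ S.X₃)
    rw [comp_zero] at h0
    exact h0.symm
  let c : ModSite.sect S.cycles U := freeOnHom O U S.cycles (S.liftCycles _ h0)
  have hc : S.iCycles.val.app (op U) c = x := by
    rw [← freeOnHom_comp, ShortComplex.liftCycles_i]
    exact (freeOnHom O U S.X₂).apply_symm_apply x
  refine ⟨_, hS U (S.homologyπ.val.app (op U) c), fun V l hl => ?_⟩
  obtain ⟨n, hn⟩ := hl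
  refine ⟨n, fun a ha => ?_⟩
  have h1 : S.homologyπ.val.app (op V) (a • smap S.cycles l c) = 0 := by
    rw [map_smul, app_smap]
    have := hn (𝟙 V) a ha
    rwa [FTors.res_id] at this
  have hE : (ShortComplex.mk S.toCycles S.homologyπ S.toCycles_comp_homologyπ).Exact :=
    ShortComplex.exact_of_g_is_cokernel _ S.homologyIsCokernel
  obtain ⟨T', hT', h'⟩ := exists_locally_of_exact hE (a • smap S.cycles l c) h1
  refine ⟨T', hT', fun W k hk => ?_⟩
  obtain ⟨w, hw⟩ := h' k hk
  refine ⟨w, ?_⟩
  rw [← S.toCycles_i]
  show S.iCycles.val.app (op W) (S.toCycles.val.app (op W) w) = _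
  rw [hw, app_smap, map_smul, app_smap, hc, smap_smul, ← smap_comp]

end Groth.Agent.FTorsH7
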