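import Groth.Agent.Lib.FTorsH7.Div
import Groth.Agent.Lib.FTorsH7.SiteTors
import Mathlib.Algebra.Homology.HomotopyCategory.Shift
import Mathlib.Algebra.Homology.ShortComplex.HomologicalComplex

/-!
# Moving sections of complexes of injectives with torsion cohomology into torsion sections
-/

set_option autoImplicit false
set_option linter.style.haveILetI false
set_option linter.unusedSectionVars false
set_option backward.isDefEq.respectTransparency false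
set_option backward.isDefEq.respectTransparency.types false
universe u

open CategoryTheory CategoryTheory.Limits AlgebraicGeometry Opposite TopologicalSpace

noncomputable section

namespace Groth.Agent.FTorsH7

open FormalModH7 ModFlat16

variable {𝔛 : FSch.Sys.{u}} {hN : 𝔛.IsLocNoethFormal}

/-- A morphism on sections. -/
abbrev apF {M N : FSch.ModF 𝔛 hN.1} (φ : M ⟶ N) (W : (𝔛.X 0).Opens) : FSec hN M W →ₗ[AV 𝔛 hN.1 W] FSec hN N W :=
  (φ.val.app (op W)).hom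

theorem apF_rF {M N : FSch.ModF 𝔛 hN.1} (φ : M ⟶ N) {V W : (𝔛.X 0).Opens} (l : W ≤ V) (x : FSec hN M V) :
    apF φ W (rF hN M l x) = rF hN N l (apF φ V x) :=
  app_smap φ (homOfLE l) x

theorem rF_rF {M : FSch.ModF 𝔛 hN.1} {U V W : (𝔛.X 0).Opens} (l : W ≤ V) (k : U ≤ W) (x : FSec hN M V) :
    rF hN M k (rF hN M l x) = rF hN M (k.trans l) x :=
  (smap_comp (F := M) (homOfLE l) (homOfLE k) x).symm

/-- A point of an open has an affine neighbourhood in a covering sieve. -/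
theorem exists_affine_mem_sieve {U : (𝔛.X 0).Opens} {S : Sieve U} (hS : S ∈ Opens.grothendieckTopology (𝔛.X 0) U)
    {x : 𝔛.X 0} (hx : x ∈ U) :
    ∃ (W : (𝔛.X 0).Opens) (l : W ≤ U), IsAffineOpen W ∧ x ∈ W ∧ S (homOfLE l) := by
  obtain ⟨W, k, hk, hxW⟩ := hS x hx
  obtain ⟨W', hW', hx', hle⟩ := exists_isAffineOpen_mem_and_subset (U := W) hxW
  exact ⟨W', hle.trans (leOfHom k), hW', hx', S.downward_closed hk (homOfLE hle)⟩

variable {V : (𝔛.X 0).Opens} {r : ℕ} {g : Fin r → AV 𝔛 hN.1 V}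
  (hV : IsAffineOpen V) (hg : Ideal.span (Set.range g) = defIdeal 𝔛 hN.1 V)
  (K : CochainComplex (FSch.ModF 𝔛 hN.1) ℤ) (hK : ∀ n, Injective (K.X n))
  (hH : ∀ n, FTors.IsTors (fam hN) (K.homology n))

/-- Sections can be moved one step towards torsion sections. -/
def CanMove (g : Fin r → AV 𝔛 hN.1 V) (K : CochainComplex (FSch.ModF 𝔛 hN.1) ℤ) (i : ℕ) : Prop :=
  ∀ (j j' j'' : ℤ), j' + 1 = j → j + 1 = j'' →
    ∀ (W : (𝔛.X 0).Opens), IsAffineOpen W → ∀ (e : W ≤ V) (y : FSec hN (K.X j) W),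
    Kl hN g i e y → Kl hN g (i + 1) e (apF (K.d j j'') W y) → ∀ x ∈ W,
    ∃ (W' : (𝔛.X 0).Opens) (l : W' ≤ W), IsAffineOpen W' ∧ x ∈ W' ∧ ∃ z : FSec hN (K.X j') W',
      Kl hN g i (l.trans e) z ∧ Kl hN g (i + 1) (l.trans e) (rF hN (K.X j) l y - apF (K.d j' j) W' z)

theorem d_d (a b c : ℤ) (W : (𝔛.X 0).Opens) (z : FSec hN (K.X a) W) :
    apF (K.d b c) W (apF (K.d a b) W z) = 0 :=
  app_smap_comp_zero (K.d a b) (K.d b c) (K.d_comp_d a b c) z

include hH hV hg in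
/-- Cycles are boundaries after multiplication by a power of a generator. -/
theorem exists_smul_boundary {j j' j'' : ℤ} (h' : j' + 1 = j) (h'' : j + 1 = j'') {W : (𝔛.X 0).Opens}
    (e : W ≤ V) (k : Fin r) (y : FSec hN (K.X j) W) (hy : apF (K.d j j'') W y = 0) {x : 𝔛.X 0} (hx : x ∈ W) :
    ∃ (W' : (𝔛.X 0).Opens) (l : W' ≤ W), IsAffineOpen W' ∧ x ∈ W' ∧ ∃ (b : ℕ) (w : FSec hN (K.X j') W'),
      apF (K.d j' j) W' w = rA hN.1 (l.trans e) (g k) ^ b • rF hN (K.X j) l y := by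
  have hS : FTors.IsTors (fam hN) (K.sc' j' j j'').homology :=
    isTors_of_iso (K.homologyIsoSc' j' j j'' (by simp; omega) (by simp; omega)) (hH j)
  obtain ⟨T, hT, h⟩ := exists_cover_smul_mem hS y hy
  obtain ⟨W₁, l₁, hW₁, hx₁, hm₁⟩ := exists_affine_mem_sieve hT hx
  obtain ⟨n, hn⟩ := h (homOfLE l₁) hm₁
  have hk : rA hN.1 (l₁.trans e) (g k) ∈ defIdeal 𝔛 hN.1 W₁ := by
    rw [← map_defIdeal_res hN hV hW₁ (l₁.trans e)]
    exact Ideal.mem_map_of_mem _ (hg ▸ Ideal.subset_span ⟨k, rfl⟩)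
  obtain ⟨T', hT', h2⟩ := hn (rA hN.1 (l₁.trans e) (g k) ^ (n + 1))
    ((mem_fam_iff hN hW₁ n _).2 (Ideal.pow_mem_pow hk _))
  obtain ⟨W₂, l₂, hW₂, hx₂, hm₂⟩ := exists_affine_mem_sieve hT' hx₁
  obtain ⟨w, hw⟩ := h2 (homOfLE l₂) hm₂
  refine ⟨W₂, l₂.trans l₁, hW₂, hx₂, n + 1, w, ?_⟩
  refine Eq.trans hw ?_
  refine congrArg (· • _) ?_
  rw [map_pow]
  exact congrArg (· ^ (n + 1)) (rA_comp hN.1 (l₁.trans e) l₂ (g k))

/-- Preimages of torsion boundaries can be moved. -/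
theorem exists_preimage_kl {i : ℕ} (hi : ∀ i' < i, CanMove (hN := hN) g K i') {j j'' : ℤ} (h'' : j + 1 = j'') :
    ∀ i' ≤ i, ∀ {W : (𝔛.X 0).Opens} (e : W ≤ V) (w₀ : FSec hN (K.X j) W),
      Kl hN g i e (apF (K.d j j'') W w₀) → ∀ x ∈ W,
      ∃ (W' : (𝔛.X 0).Opens) (l : W' ≤ W), IsAffineOpen W' ∧ x ∈ W' ∧ ∃ w : FSec hN (K.X j) W',
        Kl hN g i' (l.trans e) w ∧ apF (K.d j j'') W' w = rF hN (K.X j'') l (apF (K.d j j'') W w₀) := by
  intro i'
  induction i' with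
  | zero =>
    intro _ W e w₀ _ x hx
    obtain ⟨W', hW', hx', hle⟩ := exists_isAffineOpen_mem_and_subset (U := W) hx
    exact ⟨W', hle, hW', hx', rF hN (K.X j) hle w₀, kl_zero_index _, apF_rF _ _ _⟩
  | succ i' ih =>
    intro hle W e w₀ hw₀ x hx
    obtain ⟨W₁, l₁, hW₁, hx₁, w₁, hw₁, hd₁⟩ := ih (Nat.le_of_succ_le hle) e w₀ hw₀ x hx
    have hd : Kl hN g (i' + 1) (l₁.trans e) (apF (K.d j j'') W₁ w₁) := by
      rw [hd₁]
      exact (hw₀.res l₁).mono hle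
    obtain ⟨W₂, l₂, hW₂, hx₂, z, -, hz⟩ := hi i' hle j (j - 1) j'' (by omega) h'' W₁ hW₁ _ w₁ hw₁ hd x hx₁
    refine ⟨W₂, l₂.trans l₁, hW₂, hx₂, _, hz, ?_⟩
    rw [map_sub, d_d, sub_zero, apF_rF, hd₁, rF_rF]

include hV hg hK hH in
theorem canMove : ∀ i < r, CanMove (hN := hN) g K i := by
  intro i
  induction i using Nat.strong_induction_on with
  | _ i ih =>
    intro hir j j' j'' h' h'' W hW e y hy hdy x hx
    obtain ⟨-, a, ha⟩ := (kl_succ_iff hir).1 hdy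
    let G := rA hN.1 e (g ⟨i, hir⟩)
    have hc : apF (K.d j j'') W (G ^ a • y) = 0 := by rw [map_smul]; exact ha
    obtain ⟨W₁, l₁, hW₁, hx₁, b, w₀, hw₀⟩ := exists_smul_boundary hV hg K hH h' h'' e ⟨i, hir⟩ _ hc hx
    have hkl : Kl hN g i (l₁.trans e) (apF (K.d j' j) W₁ w₀) := by
      rw [hw₀]
      exact ((hy.smul _).res l₁).smul _
    obtain ⟨W₂, l₂, hW₂, hx₂, w, hw, hwd⟩ :=
      exists_preimage_kl K (fun i' hi' => ih i' hi' (hi'.trans hir)) h' i le_rfl (l₁.trans e) w₀ hkl x hx₁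
    haveI := hK j'
    obtain ⟨z, hz, hz'⟩ := exists_div (K.X j') hW₂ hir hw (a + b)
    have l := l₂.trans l₁
    refine ⟨W₂, l, hW₂, hx₂, z, hz, Kl.of_smul hir ((hy.res l).sub (hz.hom _)) (a := a + b) ?_⟩
    have hG : ∀ p : ℕ, rA hN.1 l₂ (rA hN.1 (l₁.trans e) (g ⟨i, hir⟩) ^ p) = rA hN.1 (l.trans e) (g ⟨i, hir⟩) ^ p :=
      fun p => by rw [map_pow]; exact congrArg (· ^ p) (rA_comp hN.1 _ _ _)
    have hG' : ∀ p : ℕ, rA hN.1 l (G ^ p) = rA hN.1 (l.trans e) (g ⟨i, hir⟩) ^ p := fun p => by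
      rw [map_pow]; exact congrArg (· ^ p) (rA_comp hN.1 _ _ _)
    have key : apF (K.d j' j) W₂ w = rA hN.1 (l.trans e) (g ⟨i, hir⟩) ^ (a + b) • rF hN (K.X j) l y := by
      rw [hwd, hw₀]
      refine (smap_smul (homOfLE l₂) _ _).trans ?_
      refine (congrArg₂ (· • ·) (hG b) ((rF_rF l₁ l₂ _).trans (smap_smul (homOfLE l) _ y))).trans ?_
      rw [add_comm a b, pow_add, mul_smul]
      exact congrArg (_ • · • _) (hG' a)
    rw [smul_sub, ← key, ← map_smul, ← map_sub]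
    exact hz'.hom _

end Groth.Agent.FTorsH7
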