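import Groth.Agent.Lib.FTorsH7.QCT

/-!
# Modules on a level as modules on the formal scheme
-/

set_option autoImplicit false
set_option linter.style.haveILetI false
set_option linter.unusedSectionVars false
set_option backward.isDefEq.respectTransparency false
set_option backward.isDefEq.respectTransparency.types false
universe u

open CategoryTheory CategoryTheory.Limits AlgebraicGeometry Opposite TopologicalSpace

noncomputable section

namespace Groth.Agent.FTorsH7

open FormalModH7 ModFlat16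

variable {𝔛 : FSch.Sys.{u}} (hN : 𝔛.IsLocNoethFormal) (k : ℕ) (G : (𝔛.X k).Modules)

/-- A module on a level, on the formal scheme. -/
abbrev jPush : FSch.ModF 𝔛 hN.1 := (FSch.levelMor 𝔛 hN.1 k).push.obj G

variable {W V : (𝔛.X 0).Opens}

/-- A section as a section on the level. -/
abbrev toL (m : FSec hN (jPush hN k G) W) : Γ(G, 𝔛.lvU hN.1 k W) := m

theorem jPush_smul (a : AV 𝔛 hN.1 W) (m : FSec hN (jPush hN k G) W) :
    toL hN k G (a • m) = prj 𝔛 hN.1 W k a • toL hN k G m := rfl

/-- Modules on a level are torsion. -/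
theorem isTors_jPush : FTors.IsTors (fam hN) (jPush hN k G) :=
  fun _ m => FTors.IsTorsSect.of_killedBy (n := k) fun W _ a ha => by
    have h : prj 𝔛 hN.1 W k a = 0 := ha
    show toL hN k G (a • _) = 0
    rw [jPush_smul, h, zero_smul]

variable [Coh.IsQCoh G]

theorem rels_jPush (hV : IsAffineOpen V) (hW : IsAffineOpen W) (i : W ≤ V) {ι κ : Type*} [Fintype ι]
    (s : ι → FSec hN (jPush hN k G) V) (R : κ → ι → AV 𝔛 hN.1 V)
    (hR : ∀ a : ι → AV 𝔛 hN.1 V, ∑ j, a j • s j = 0 → a ∈ Submodule.span (AV 𝔛 hN.1 V) (Set.range R))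
    (c : ι → AV 𝔛 hN.1 W) (hc : ∑ j, c j • rF hN (jPush hN k G) i (s j) = 0) :
    c ∈ Submodule.span (AV 𝔛 hN.1 W) (Set.range fun r j => rA hN.1 i (R r j)) := by
  classical
  let P := Submodule.span (AV 𝔛 hN.1 W) (Set.range fun r j => rA hN.1 i (R r j))
  have h1 : ∀ a : ι → LV 𝔛 hN.1 k V, ∑ j, a j • toL hN k G (s j) = 0 →
      a ∈ Submodule.span (LV 𝔛 hN.1 k V) (Set.range fun r j => prj 𝔛 hN.1 V k (R r j)) := fun a ha => by
    choose a' ha' using fun j => prj_surjective hN hV k (a j)
    obtain rfl : a = fun j => prj 𝔛 hN.1 V k (a' j) := funext fun j => (ha' j).symm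
    exact map_span_pi (prj 𝔛 hN.1 V k) R (hR a' ha)
  obtain ⟨d, hd⟩ := (Finsupp.mem_span_range_iff_exists_finsupp).1
    (rels_mres G (isAffineOpen_lvU hN hV k) (isAffineOpen_lvU hN hW k) (lvU_mono hN.1 i k)
      (fun j => toL hN k G (s j)) (fun r j => prj 𝔛 hN.1 V k (R r j)) h1
      (fun j => prj 𝔛 hN.1 W k (c j)) hc)
  choose d' hd' using fun r => prj_surjective hN hW k (d r)
  have hsingle : ∀ (b : AV 𝔛 hN.1 W) (j : ι), b ∈ defIdeal 𝔛 hN.1 W ^ (k + 1) → Pi.single j b ∈ P := by
    intro b j hb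
    rw [← map_defIdeal_res hN hV hW i, ← Ideal.map_pow, Ideal.map] at hb
    induction hb using Submodule.span_induction with
    | mem x hx =>
      obtain ⟨a, ha, rfl⟩ := hx
      have h2 := map_span_pi (rA hN.1 i) R (hR (Pi.single j a) (by
        rw [Finset.sum_eq_single j (fun l _ hl => by rw [Pi.single_eq_of_ne hl, zero_smul])
          (fun h => absurd (Finset.mem_univ j) h), Pi.single_eq_same]
        have h3 : prj 𝔛 hN.1 V k a = 0 := by
          rw [← RingHom.mem_ker, (structure_AV hN hV).2.2 k]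
          exact ha
        show toL hN k G (a • s j) = 0
        rw [jPush_smul, h3, zero_smul]))
      convert h2 using 1
      funext l
      rcases eq_or_ne l j with rfl | hl
      · rw [Pi.single_eq_same, Pi.single_eq_same]
      · rw [Pi.single_eq_of_ne hl, Pi.single_eq_of_ne hl, map_zero]
    | zero => rw [Pi.single_zero]; exact Submodule.zero_mem _
    | add x y _ _ hx hy => rw [Pi.single_add]; exact Submodule.add_mem _ hx hy
    | smul x y _ hy => rw [Pi.single_smul]; exact Submodule.smul_mem _ _ hy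
  let e : ι → AV 𝔛 hN.1 W := c - d.support.sum fun r => d' r • fun j => rA hN.1 i (R r j)
  have he : ∀ j, e j ∈ defIdeal 𝔛 hN.1 W ^ (k + 1) := fun j => by
    rw [← (structure_AV hN hW).2.2 k, RingHom.mem_ker]
    simp only [e, Pi.sub_apply, Finset.sum_apply, Pi.smul_apply, smul_eq_mul, map_sub, map_sum, map_mul, hd']
    have h4 := congrFun hd j
    rw [Finsupp.sum, Finset.sum_apply] at h4
    rw [sub_eq_zero, ← h4]
    exact Finset.sum_congr rfl fun r _ => congrArg (d r * ·) (prj_rA hN.1 i k _).symm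
  have h5 : c = (∑ j, Pi.single j (e j)) + d.support.sum fun r => d' r • fun j => rA hN.1 i (R r j) := by
    rw [Finset.univ_sum_single, sub_add_cancel]
  rw [h5]
  exact Submodule.add_mem _ (Submodule.sum_mem _ fun j _ => hsingle _ j (he j))
    (Submodule.sum_mem _ fun r _ => Submodule.smul_mem _ _ (Submodule.subset_span ⟨r, rfl⟩))

theorem nonempty_presentation_jPush (hV : IsAffineOpen V) :
    Nonempty (SheafOfModules.Presentation ((ModSite.restr (𝔛.Osh hN.1) V).obj (jPush hN k G))) := by
  classical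
  let s : FSec hN (jPush hN k G) V → FSec hN (jPush hN k G) V := fun z => z
  refine nonempty_presentation_of_genF (s := s) (fun W p x => ?_) fun W p F c hc => ?_
  · refine ⟨affSieve W, affSieve_mem W, fun W' l hl => ?_⟩
    obtain ⟨U, hU, h1, h2⟩ := hl
    have e : U ≤ V := h2.trans p.le
    have h3 := span_mres G (isAffineOpen_lvU hN hV k) (isAffineOpen_lvU hN hU k) (lvU_mono hN.1 e k)
      (fun z : Γ(G, 𝔛.lvU hN.1 k V) => z) (by rw [Set.range_id']; exact Submodule.span_univ)
    obtain ⟨d, hd⟩ := (Finsupp.mem_span_range_iff_exists_finsupp).1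
      (h3 ▸ (Submodule.mem_top (x := M1.mres G (lvU_mono hN.1 h2 k) (toL hN k G x))))
    choose d' hd' using fun z => prj_surjective hN hU k (d z)
    refine ⟨d.support, fun z => rA hN.1 h1 (d' z), ?_⟩
    have h4 : rF hN (jPush hN k G) h2 x = ∑ z ∈ d.support, d' z • rF hN (jPush hN k G) e (s z) := by
      refine hd.symm.trans (Finset.sum_congr rfl fun z _ => ?_)
      show _ = toL hN k G (d' z • rF hN (jPush hN k G) e (s z))
      rw [jPush_smul, hd']
      rfl
    have h5 := congrArg (smap (jPush hN k G) (homOfLE h1)) h4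
    rw [map_sum] at h5
    refine ((smap_comp (F := jPush hN k G) (homOfLE h2) (homOfLE h1) x).trans h5).trans
      (Finset.sum_congr rfl fun z _ => ?_)
    rw [smap_smul]
    exact congrArg (rA hN.1 h1 (d' z) • ·) (smap_comp (F := jPush hN k G) (homOfLE e) (homOfLE h1) (s z)).symm
  · haveI := (structure_AV hN hV).1
    let φ := Fintype.linearCombination (AV 𝔛 hN.1 V) (fun z : F => (z.1 : FSec hN (jPush hN k G) V))
    obtain ⟨T, hT⟩ := (IsNoetherian.noetherian (LinearMap.ker φ) : (LinearMap.ker φ).FG)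
    refine ⟨affSieve W, affSieve_mem W, fun W' l hl => ?_⟩
    obtain ⟨U, hU, h1, h2⟩ := hl
    have e : U ≤ V := h2.trans p.le
    have h6 := rels_jPush hN k G hV hU e (fun z : F => (z.1 : FSec hN (jPush hN k G) V))
      (fun (r : T) z => r.1 z) (fun a ha => by
        rw [Subtype.range_coe_subtype]
        show a ∈ Submodule.span (AV 𝔛 hN.1 V) (T : Set (F → AV 𝔛 hN.1 V))
        rw [hT, LinearMap.mem_ker, Fintype.linearCombination_apply]
        exact ha) (fun z => rA hN.1 h2 (c z.1)) (by
        have h7 := congrArg (smap (jPush hN k G) (homOfLE h2)) hc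
        rw [map_zero, map_sum] at h7
        refine Eq.trans ?_ h7
        rw [← Finset.sum_coe_sort F fun z => smap (jPush hN k G) (homOfLE h2) (c z • smap (jPush hN k G) p (s z))]
        exact Finset.sum_congr rfl fun z _ =>
          ((smap_smul _ _ _).trans (congrArg (_ • ·) (smap_comp (F := jPush hN k G) p (homOfLE h2) _).symm)).symm)
    obtain ⟨d, hd⟩ := (Submodule.mem_span_range_iff_exists_fun (AV 𝔛 hN.1 U)).1 h6
    refine ⟨T, inferInstance, F, fun r j => if hj : j ∈ F then r.1 ⟨j, hj⟩ else 0, fun r => rA hN.1 h1 (d r),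
      subset_rfl, fun r => ?_, fun j hj => ?_⟩
    · have h8 : φ r.1 = 0 := LinearMap.mem_ker.1 (hT ▸ Submodule.subset_span r.2)
      rw [Fintype.linearCombination_apply] at h8
      refine Eq.trans ?_ h8
      rw [← Finset.sum_coe_sort F (fun j => (if hj : j ∈ F then r.1 ⟨j, hj⟩ else 0) • s j)]
      exact Finset.sum_congr rfl fun j _ => by rw [dif_pos j.2]
    · rw [if_pos hj]
      have h9 := congrArg (rA hN.1 h1) (congrFun hd ⟨j, hj⟩).symm
      rw [Finset.sum_apply, map_sum, rA_comp] at h9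
      refine Eq.trans h9 (Finset.sum_congr rfl fun r _ => ?_)
      rw [Pi.smul_apply, smul_eq_mul, map_mul, rA_comp]
      refine congrArg (rA hN.1 h1 (d r) * ·) ?_
      refine Eq.trans ?_ (congrArg (rmap (𝔛.Osh hN.1) (l ≫ p))
        (dif_pos (t := fun h => r.1 ⟨j, h⟩) (e := fun _ => (0 : AV 𝔛 hN.1 V)) hj).symm)
      rfl

/-- Quasi-coherent modules on a level are quasi-coherent torsion modules. -/
theorem isQCT_jPush : FTors.IsQCT 𝔛 hN.1 (jPush hN k G) := by
  refine ⟨isTors_jPush hN k G, isQuasicoherent_of_covd fun X => ?_⟩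
  refine ⟨affSieve X, affSieve_mem X, fun U l hl => ?_⟩
  obtain ⟨V, hV, h1, -⟩ := hl
  exact ⟨V, ⟨homOfLE h1⟩, nonempty_presentation_jPush hN k G hV⟩

/-- Coherent modules on a level are coherent. -/
theorem isCohF_jPush (hG : Coh.IsCoh G) : FSch.IsCohF 𝔛 hN.1 (jPush hN k G) := by
  haveI := (isQCT_jPush hN k G).2
  haveI : SheafOfModules.IsFiniteType (R := ModSite.ringSh (𝔛.Osh hN.1)) (jPush hN k G) := by
    refine ModFlat16.isFiniteType_of_covd fun X => ⟨affSieve X, affSieve_mem X, fun U l hl => ?_⟩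
    obtain ⟨V, hV, h1, -⟩ := hl
    refine ModFlat16.HasGens.res (homOfLE h1) ?_
    haveI : Module.Finite (LV 𝔛 hN.1 k V) Γ(G, 𝔛.lvU hN.1 k V) :=
      M1.finite_sections hG.1 hG.2 (isAffineOpen_lvU hN hV k)
    obtain ⟨t, ht⟩ := (Module.Finite.fg_top (R := LV 𝔛 hN.1 k V) (M := Γ(G, 𝔛.lvU hN.1 k V)))
    refine ⟨t, inferInstance, fun z => (z.1 : FSec hN (jPush hN k G) V), gens_of_affine hN _ _ fun W hW i => ?_⟩
    have h3 := span_mres G (isAffineOpen_lvU hN hV k) (isAffineOpen_lvU hN hW k) (lvU_mono hN.1 i k)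
      (fun z : t => z.1) (by rw [Subtype.range_coe_subtype]; exact ht)
    rw [eq_top_iff]
    rintro y -
    obtain ⟨d, hd⟩ := (Submodule.mem_span_range_iff_exists_fun (LV 𝔛 hN.1 k W)).1
      (h3 ▸ (Submodule.mem_top (x := (toL hN k G y))))
    choose d' hd' using fun z => prj_surjective hN hW k (d z)
    have h4 : ∑ z : t, d' z • rF hN (jPush hN k G) i (z.1 : FSec hN (jPush hN k G) V) = y := by
      refine Eq.trans (Finset.sum_congr rfl fun z _ => ?_) hd
      show toL hN k G (d' z • rF hN (jPush hN k G) i _) = _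
      rw [jPush_smul, hd']
      rfl
    rw [← h4]
    exact Submodule.sum_mem _ fun z _ => Submodule.smul_mem _ _ (Submodule.subset_span ⟨z, rfl⟩)
  exact isFinitePresentation_of_qcoh (hN := hN)

end Groth.Agent.FTorsH7
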