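import Groth.Agent.Lib.FTorsH7.QIso
import Mathlib.CategoryTheory.Abelian.SerreClass.Basic

/-!
# Torsion modules on locally Noetherian formal schemes form a Serre class
-/

set_option autoImplicit false
set_option linter.style.haveILetI false
set_option linter.unusedSectionVars false
set_option backward.isDefEq.respectTransparency false
set_option backward.isDefEq.respectTransparency.types false
universe u

open CategoryTheory CategoryTheory.Limits AlgebraicGeometry Opposite TopologicalSpace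

noncomputable section

namespace Groth.Agent.FTorsH7

open FormalModH7 ModFlat16 ZeroObject

theorem isTors_of_epi {C : Type u} [SmallCategory C] {J : GrothendieckTopology C} {O : Sheaf J CommRingCat.{u}}
    {I : FTors.IdealFam O} {M N : ModSite.Mod O} (f : M ⟶ N) [Epi f] (h : FTors.IsTors I M) : FTors.IsTors I N :=
  fun U y => by
    obtain ⟨T, hT, hT'⟩ := ExtSupp8.exists_local_preimage f y
    refine FTors.IsTorsSect.of_cover hT fun V l hl => ?_
    obtain ⟨z, hz⟩ := hT' l hl
    have e : FTors.res N l y = f.val.app (op V) z := hz.symm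
    rw [e]
    exact (h V z).hom f

variable {𝔛 : FSch.Sys.{u}} {hN : 𝔛.IsLocNoethFormal}

theorem isTors_X₂ {S : ShortComplex (FSch.ModF 𝔛 hN.1)} (hS : S.Exact) (h₁ : FTors.IsTors (fam hN) S.X₁)
    (h₃ : FTors.IsTors (fam hN) S.X₃) : FTors.IsTors (fam hN) S.X₂ := fun U s => by
  obtain ⟨T, hT, hT'⟩ := mem_of_forall (U := U) (Q := fun W l => FTors.IsTorsSect (fam hN) S.X₂ (smap S.X₂ l s))
    (fun W W' l k h => by rw [smap_comp]; exact h.res k) fun x hx => by
      obtain ⟨V, hV, hxV, hle, r, g, hg⟩ := exists_chart (hN := hN) hx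
      obtain ⟨W₁, l₁, hW₁, hx₁, m, hm⟩ :=
        exists_kl_of_isTorsSect hV hg le_rfl (h₃ V (rF hN S.X₃ hle (apF S.g U s))) hxV
      have hker : ∀ k : Fin r, ∃ T ∈ Opens.grothendieckTopology (𝔛.X 0) W₁, ∀ ⦃W : (𝔛.X 0).Opens⦄ (l : W ⟶ W₁),
          T l → ∃ t, S.f.val.app (op W) t =
            smap S.X₂ l (rA hN.1 l₁ (g k) ^ m • rF hN S.X₂ (l₁.trans hle) s) := fun k => by
        refine exists_locally_of_exact hS _ ?_
        show apF S.g W₁ _ = 0
        rw [map_smul, apF_rF, ← rF_rF hle l₁]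
        exact hm k k.2
      obtain ⟨T, hT, hT'⟩ := cov_iInter' hker
      obtain ⟨W₂, l₂, hW₂, hx₂, hm₂⟩ := exists_affine_mem_sieve hT hx₁
      choose t ht using fun k => hT' k (homOfLE l₂) hm₂
      obtain ⟨T', hT₂, hT₂'⟩ := cov_iInter' fun k => ⟨_, h₁ W₂ (t k), fun W l hl => hl⟩
      obtain ⟨W₃, l₃, hW₃, hx₃, hm₃⟩ := exists_affine_mem_sieve hT₂ hx₂
      have l₃₂ := l₃.trans l₂
      have hkl : ∀ k, Kl hN g r (l₃₂.trans l₁) (rF hN S.X₁ l₃ (t k)) := fun k => by
        obtain ⟨n, hn⟩ := hT₂' k (homOfLE l₃) hm₃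
        exact kl_of_killedBy hV hg hW₃ _ r hn
      choose m' hm' using fun k => hkl k
      refine ⟨W₃, homOfLE ((l₃₂.trans l₁).trans hle), hx₃, isTorsSect_of_kl hV hg hW₃ (e := l₃₂.trans l₁) ?_⟩
      refine ⟨(Finset.univ.sum fun k => m' k) + m, fun k _ => ?_⟩
      have h2 := congrArg (rF hN S.X₂ l₃) (ht k)
      rw [← apF_rF] at h2
      have h3 := congrArg (apF S.f W₃) (hm' k k k.2)
      rw [map_smul, map_zero, h2] at h3
      obtain ⟨d, hd⟩ := Nat.exists_eq_add_of_le (Finset.single_le_sum (f := m') (fun _ _ => Nat.zero_le _)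
        (Finset.mem_univ k))
      rw [hd, add_comm (m' k) d, add_assoc, pow_add, mul_smul, pow_add, mul_smul]
      refine (congrArg (_ • ·) ?_).trans (smul_zero _)
      refine Eq.trans (congrArg (_ • ·) ?_) h3
      rw [smap_smul, ← smap_comp]
      refine Eq.trans ?_ (smap_smul (homOfLE l₃) _ _).symm
      refine congrArg₂ (· • ·) ?_ ((smap_comp (F := S.X₂) _ _ _).symm.trans rfl).symm
      rw [map_pow, map_pow]
      exact congrArg (· ^ m) ((rA_comp hN.1 (l₂.trans l₁) l₃ (g k)).symm.trans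
        (congrArg (rA hN.1 l₃) (rA_comp hN.1 l₁ l₂ (g k)).symm))
  exact FTors.IsTorsSect.of_cover hT fun V l hl => hT' l hl

variable (hN) in
theorem isSerreClass : (FTors.IsTorsF 𝔛 hN.1).IsSerreClass where
  exists_zero := ⟨0, isZero_zero _, fun U s => by
    have e : s = 0 := by
      apply (freeOnHom (𝔛.Osh hN.1) U (0 : FSch.ModF 𝔛 hN.1)).symm.injective
      exact (isZero_zero _).eq_of_tgt _ _
    rw [e]
    exact FTors.IsTorsSect.zero _ _ _⟩
  prop_of_mono f hf h := @isTors_of_mono _ _ _ _ _ _ _ f hf h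
  prop_of_epi f hf h := @isTors_of_epi _ _ _ _ _ _ _ f hf h
  prop_X₂_of_shortExact hS h₁ h₃ := isTors_X₂ (hN := hN) hS.exact h₁ h₃

end Groth.Agent.FTorsH7
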