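import Groth.Agent.Lib.FTorsH7.Gamma
import Groth.Agent.Lib.FTorsH7.Serre
import Groth.Agent.Lib.FormalModH7.SmallGen
import Groth.Agent.Lib.FormalModH7.Coref

/-!
# Quasi-coherent torsion modules
-/

set_option autoImplicit false
set_option linter.style.haveILetI false
set_option linter.unusedSectionVars false
set_option backward.isDefEq.respectTransparency false
set_option backward.isDefEq.respectTransparency.types false
universe u

open CategoryTheory CategoryTheory.Limits AlgebraicGeometry Opposite TopologicalSpace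

noncomputable section

namespace Groth.Agent.FTorsH7

open FormalModH7 ModFlat16

theorem isTors_colimit {C : Type u} [SmallCategory C] {J : GrothendieckTopology C} {O : Sheaf J CommRingCat.{u}}
    {I : FTors.IdealFam O} {K : Type*} [Category K] {D : K ⥤ ModSite.Mod O} {c : Cocone D} (hc : IsColimit c)
    (h : ∀ j, FTors.IsTors I (D.obj j)) : FTors.IsTors I c.pt := by
  let c' : Cocone D :=
    { pt := (FTors.gamma O I).obj c.pt
      ι := { app := fun j => gammaLift (h j) (c.ι.app j)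
             naturality := fun i j f => by
              rw [← cancel_mono ((FTors.gammaι I).app c.pt), Category.assoc, gammaLift_ι]
              show D.map f ≫ c.ι.app j = (gammaLift (h i) (c.ι.app i) ≫ 𝟙 _) ≫ _
              rw [Category.comp_id]
              exact (Cocone.w c f).trans (gammaLift_ι (h i) _).symm } }
  have e : hc.desc c' ≫ (FTors.gammaι I).app c.pt = 𝟙 c.pt := hc.hom_ext fun j => by
    rw [hc.fac_assoc]
    exact (gammaLift_ι (h j) _).trans (Category.comp_id _).symm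
  haveI : Mono (hc.desc c') := mono_of_mono_fac e
  exact isTors_of_mono (hc.desc c') (isTors_gamma I c.pt)

variable {𝔛 : FSch.Sys.{u}} (hN : 𝔛.IsLocNoethFormal)

theorem isQCT_iff (M : FSch.ModF 𝔛 hN.1) :
    FTors.IsQCT 𝔛 hN.1 M ↔ FTors.IsTors (fam hN) M ∧ IndC hN M :=
  ⟨fun h => ⟨h.1, haveI := h.2; indC_of_isTors h.1⟩, fun h => ⟨h.1, isQuasicoherent_of_ind hN h.2⟩⟩

/-- Colimits of quasi-coherent torsion modules. -/
theorem isQCT_colimit {K : Type u} [SmallCategory K] (D : K ⥤ FSch.ModF 𝔛 hN.1) (c : Cocone D) (hc : IsColimit c)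
    (h : ∀ j, FTors.IsQCT 𝔛 hN.1 (D.obj j)) : FTors.IsQCT 𝔛 hN.1 c.pt :=
  (isQCT_iff hN _).2 ⟨isTors_colimit hc fun j => (h j).1, ind_colimit hN D c hc fun j => ((isQCT_iff hN _).1 (h j)).2⟩

theorem isQCT_cokernel {M N : FSch.ModF 𝔛 hN.1} (φ : M ⟶ N) (hM : FTors.IsQCT 𝔛 hN.1 M)
    (hN' : FTors.IsQCT 𝔛 hN.1 N) : FTors.IsQCT 𝔛 hN.1 (cokernel φ) :=
  (isQCT_iff hN _).2 ⟨isTors_of_epi (cokernel.π φ) hN'.1,
    ind_cokernel hN φ ((isQCT_iff hN _).1 hM).2 ((isQCT_iff hN _).1 hN').2⟩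

theorem isQCT_of_iso {M N : FSch.ModF 𝔛 hN.1} (e : M ≅ N) (h : FTors.IsQCT 𝔛 hN.1 M) : FTors.IsQCT 𝔛 hN.1 N :=
  ⟨isTors_of_iso e h.1, (SheafOfModules.isQuasicoherent (R := ModSite.ringSh (𝔛.Osh hN.1))).prop_of_iso e h.2⟩

theorem isClosedUnderIsomorphisms_isQCT : (FTors.IsQCT 𝔛 hN.1).IsClosedUnderIsomorphisms :=
  ⟨fun e h => isQCT_of_iso hN e h⟩

/-- Quasi-coherent torsion modules are coreflective. -/
theorem isLeftAdjoint_ι_isQCT : (FTors.IsQCT 𝔛 hN.1).ι.IsLeftAdjoint := by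
  let Q : ObjectProperty (FSch.ModF 𝔛 hN.1) := fun M =>
    SheafOfModules.IsFinitePresentation (R := ModSite.ringSh (𝔛.Osh hN.1)) M ∧ FTors.IsTors (fam hN) M
  haveI : Q.IsClosedUnderIsomorphisms :=
    ⟨fun e h => ⟨(SheafOfModules.isFinitePresentation (R := ModSite.ringSh (𝔛.Osh hN.1))).prop_of_iso e h.1, isTors_of_iso e h.2⟩⟩
  obtain ⟨A, G, hG, hA⟩ := exists_small_of_finiteType (𝔛.Osh hN.1) Q fun M h => by
    haveI := h.1
    infer_instance
  haveI := isClosedUnderIsomorphisms_isQCT hN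
  refine isLeftAdjoint_ι_of_generators (FTors.IsQCT 𝔛 hN.1)
    (fun K _ D hD => isQCT_colimit hN D _ (colimit.isColimit D) hD) (fun f hM hN' => isQCT_cokernel hN f hM hN') G
    (fun a => (isQCT_iff hN _).2 ⟨(hG a).2, ind_coh hN (hG a).1⟩) fun X hX => ?_
  obtain ⟨hXt, hXi⟩ := (isQCT_iff hN X).1 hX
  haveI := hX.2
  obtain ⟨A', C, f, hC, hf⟩ := exists_covers hN hXi
  obtain ⟨J, i₁, i₂, pres, hp, hm⟩ := exists_mono_pres hN hC hf
  exact ⟨J, i₁, pres, fun j => hA _ ⟨hp j, @isTors_of_mono _ _ _ _ _ _ _ (pres.ι.app j) (hm j) hXt⟩⟩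

theorem isQCT_of_five (S : ComposableArrows (FSch.ModF 𝔛 hN.1) 4) (hS : S.Exact)
    (h₀ : FTors.IsQCT 𝔛 hN.1 (S.obj 0)) (h₁ : FTors.IsQCT 𝔛 hN.1 (S.obj 1)) (h₃ : FTors.IsQCT 𝔛 hN.1 (S.obj 3))
    (h₄ : FTors.IsQCT 𝔛 hN.1 (S.obj 4)) : FTors.IsQCT 𝔛 hN.1 (S.obj 2) := by
  haveI := h₀.2
  haveI := h₁.2
  haveI := h₃.2
  haveI := h₄.2
  refine ⟨isTors_X₂ (hN := hN) (S := S.sc hS.toIsComplex 1) (hS.exact 1) h₁.1 h₃.1, ?_⟩
  exact @isQuasicoherent_of_five _ hN (S.obj 0) (S.obj 1) (S.obj 2) (S.obj 3) (S.obj 4) (S.map' 0 1) (S.map' 1 2) (S.map' 2 3) (S.map' 3 4)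
    (hS.toIsComplex.zero 0) (hS.toIsComplex.zero 1) (hS.toIsComplex.zero 2) (hS.exact 0) (hS.exact 1) (hS.exact 2) h₀.2 h₁.2 h₃.2 h₄.2

end Groth.Agent.FTorsH7
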