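import Groth.Agent.Lib.FTorsH7.Move
import Groth.Agent.Lib.FTorsH7.HomElts
import Mathlib.CategoryTheory.Sites.Over
import Mathlib.Algebra.Homology.QuasiIso
import Mathlib.Algebra.Homology.Additive

/-!
# The torsion sections of a complex of injectives with torsion cohomology
-/

set_option autoImplicit false
set_option linter.style.haveILetI false
set_option linter.unusedSectionVars false
set_option backward.isDefEq.respectTransparency false
set_option backward.isDefEq.respectTransparency.types false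
universe u

open CategoryTheory CategoryTheory.Limits AlgebraicGeometry Opposite TopologicalSpace

noncomputable section

namespace Groth.Agent.FTorsH7

open FormalModH7 ModFlat16

variable {𝔛 : FSch.Sys.{u}} {hN : 𝔛.IsLocNoethFormal}

theorem isTorsSect_of_kl {V W : (𝔛.X 0).Opens} (hV : IsAffineOpen V) {r : ℕ} {g : Fin r → AV 𝔛 hN.1 V}
    (hg : Ideal.span (Set.range g) = defIdeal 𝔛 hN.1 V) (hW : IsAffineOpen W) {e : W ≤ V} {M : FSch.ModF 𝔛 hN.1}
    {s : FSec hN M W} (hs : Kl hN g r e s) : FTors.IsTorsSect (fam hN) M s := by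
  obtain ⟨n, hn⟩ := exists_killedBy_of_kl hV hg hW hs
  exact FTors.IsTorsSect.of_killedBy hn

/-- A neighbourhood with generators of the ideal of definition. -/
theorem exists_chart {U : (𝔛.X 0).Opens} {x : 𝔛.X 0} (hx : x ∈ U) :
    ∃ (V : (𝔛.X 0).Opens), IsAffineOpen V ∧ x ∈ V ∧ V ≤ U ∧ ∃ (r : ℕ) (g : Fin r → AV 𝔛 hN.1 V),
      Ideal.span (Set.range g) = defIdeal 𝔛 hN.1 V := by
  obtain ⟨V, hV, hxV, hle⟩ := exists_isAffineOpen_mem_and_subset (U := U) hx
  exact ⟨V, hV, hxV, hle, exists_gens_defIdeal hN hV⟩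

theorem exists_kl_of_isTorsSect {V W : (𝔛.X 0).Opens} (hV : IsAffineOpen V) {r : ℕ} {g : Fin r → AV 𝔛 hN.1 V}
    (hg : Ideal.span (Set.range g) = defIdeal 𝔛 hN.1 V) (e : W ≤ V) {M : FSch.ModF 𝔛 hN.1} {s : FSec hN M W}
    (hs : FTors.IsTorsSect (fam hN) M s) {x : 𝔛.X 0} (hx : x ∈ W) :
    ∃ (W' : (𝔛.X 0).Opens) (l : W' ≤ W), IsAffineOpen W' ∧ x ∈ W' ∧ Kl hN g r (l.trans e) (rF hN M l s) := by
  obtain ⟨W', l, hW', hx', hm⟩ := exists_affine_mem_sieve hs hx
  obtain ⟨n, hn⟩ := hm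
  exact ⟨W', l, hW', hx', kl_of_killedBy hV hg hW' _ r hn⟩

/-- A sieve around every point covers. -/
theorem mem_of_forall {U : (𝔛.X 0).Opens} {Q : ∀ ⦃W : (𝔛.X 0).Opens⦄, (W ⟶ U) → Prop}
    (hres : ∀ ⦃W W' : (𝔛.X 0).Opens⦄ (l : W ⟶ U) (k : W' ⟶ W), Q l → Q (k ≫ l))
    (h : ∀ x ∈ U, ∃ (W : (𝔛.X 0).Opens) (l : W ⟶ U), x ∈ W ∧ Q l) :
    ∃ T ∈ Opens.grothendieckTopology (𝔛.X 0) U, ∀ ⦃W : (𝔛.X 0).Opens⦄ (l : W ⟶ U), T l → Q l :=
  ⟨{ arrows := fun _ l => Q l, downward_closed := fun {_ _} l hl k => hres l k hl },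
    fun x hx => by
      obtain ⟨W, l, hxW, hl⟩ := h x hx
      exact ⟨W, l, hl, hxW⟩, fun _ _ hl => hl⟩

variable (K : CochainComplex (FSch.ModF 𝔛 hN.1) ℤ)

/-- The inclusion of the torsion sections. -/
abbrev incl : ((FTors.gammaT 𝔛 hN.1).mapHomologicalComplex (ComplexShape.up ℤ)).obj K ⟶ K :=
  { f := fun n => (FTors.gammaι (fam hN)).app (K.X n)
    comm' := fun _ _ _ => ((FTors.gammaι (fam hN)).naturality _).symm }

variable {K} (hK : ∀ n, Injective (K.X n)) (hH : ∀ n, FTors.IsTors (fam hN) (K.homology n))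

include hK hH in
/-- The torsion sections of a complex of injectives with torsion cohomology compute it. -/
theorem quasiIso_incl : QuasiIso (incl (hN := hN) K) := by
  refine ⟨fun j => ?_⟩
  rw [quasiIsoAt_iff' (incl (hN := hN) K) (j - 1) j (j + 1) (by simp) (by simp), ShortComplex.quasiIso_iff]
  refine isIso_homologyMap_of_locally _ (fun U y hy => mem_of_forall ?_ fun x hx => ?_)
    (fun U y w hy hyw => mem_of_forall ?_ fun x hx => ?_)
  · rintro W W' l k ⟨y', w', h1, h2⟩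
    refine ⟨smap _ k y', smap _ k w', by rw [app_smap, h1, map_zero], ?_⟩
    rw [smap_comp, h2, map_add, app_smap, app_smap]
  · obtain ⟨V, hV, hxV, hle, r, g, hg⟩ := exists_chart (hN := hN) hx
    have hmove : ∀ i ≤ r, ∀ (W : (𝔛.X 0).Opens) (e : W ≤ V) (y : FSec hN (K.X j) W),
        apF (K.d j (j + 1)) W y = 0 → x ∈ W → ∃ (W' : (𝔛.X 0).Opens) (l : W' ≤ W), IsAffineOpen W' ∧ x ∈ W' ∧
          ∃ (y' : FSec hN (K.X j) W') (z : FSec hN (K.X (j - 1)) W'), Kl hN g i (l.trans e) y' ∧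
            apF (K.d j (j + 1)) W' y' = 0 ∧ rF hN (K.X j) l y = y' + apF (K.d (j - 1) j) W' z := by
      intro i
      induction i with
      | zero =>
        intro _ W e y hy hxW
        obtain ⟨W', hW', hx', hle'⟩ := exists_isAffineOpen_mem_and_subset (U := W) hxW
        exact ⟨W', hle', hW', hx', rF hN (K.X j) hle' y, 0, kl_zero_index _, by rw [apF_rF, hy, map_zero],
          by rw [map_zero, add_zero]⟩
      | succ i ih =>
        intro hi W e y hy hxW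
        obtain ⟨W₁, l₁, hW₁, hx₁, y₁, z₁, hk₁, hy₁, e₁⟩ := ih (Nat.le_of_succ_le hi) W e y hy hxW
        obtain ⟨W₂, l₂, hW₂, hx₂, z, -, hk₂⟩ := canMove hV hg K hK hH i hi j (j - 1) (j + 1) (by omega) rfl W₁ hW₁
          (l₁.trans e) y₁ hk₁ (by rw [hy₁]; exact Kl.zero) x hx₁
        refine ⟨W₂, l₂.trans l₁, hW₂, hx₂, _, rF hN (K.X (j - 1)) l₂ z₁ + z, hk₂,
          by rw [map_sub, apF_rF, hy₁, map_zero, d_d, sub_zero], ?_⟩
        rw [← rF_rF l₁ l₂, e₁, map_add, map_add, apF_rF]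
        abel
    have hxU : x ∈ U := hx
    obtain ⟨W, l, hW, hxW, y', z, hk, hy', e⟩ := hmove r le_rfl V le_rfl (rF hN (K.X j) hle y)
      (by rw [apF_rF]; exact (congrArg _ hy).trans (map_zero _)) hxV
    refine ⟨W, homOfLE (l.trans hle), hxW, ⟨y', isTorsSect_of_kl hV hg hW hk⟩, z, Subtype.ext hy', ?_⟩
    exact (rF_rF hle l y).symm.trans e
  · rintro W W' l k ⟨v, hv⟩
    exact ⟨smap _ k v, by rw [app_smap, hv, smap_comp]⟩
  · obtain ⟨V, hV, hxV, hle, r, g, hg⟩ := exists_chart (hN := hN) hx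
    have hyt : FTors.IsTorsSect (fam hN) (K.X j) (rF hN (K.X j) hle (Subtype.val y)) := (show FTors.IsTorsSect (fam hN) (K.X j) (Subtype.val y) from y.2).res _
    obtain ⟨W₁, l₁, hW₁, hx₁, hk⟩ := exists_kl_of_isTorsSect hV hg le_rfl hyt hxV
    have hyw' : (Subtype.val y : FSec hN (K.X j) U) = apF (K.d (j - 1) j) U w := hyw
    have hd : apF (K.d (j - 1) j) W₁ (rF hN (K.X (j - 1)) (l₁.trans hle) w) =
        rF hN (K.X j) l₁ (rF hN (K.X j) hle (Subtype.val y)) := by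
      rw [apF_rF, rF_rF, hyw']
    obtain ⟨W₂, l₂, hW₂, hx₂, v, hv, hvd⟩ := exists_preimage_kl K (fun i hi => canMove hV hg K hK hH i hi)
      (j := j - 1) (j'' := j) (by omega) r le_rfl l₁ (rF hN (K.X (j - 1)) (l₁.trans hle) w)
      (by rw [hd]; exact hk) x hx₁
    refine ⟨W₂, homOfLE ((l₂.trans l₁).trans hle), hx₂, ⟨v, isTorsSect_of_kl hV hg hW₂ hv⟩, Subtype.ext ?_⟩
    rw [hd, rF_rF, rF_rF] at hvd
    exact hvd

end Groth.Agent.FTorsH7
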