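import Groth.Agent.Lib.FTorsH7.QCT
import Groth.Agent.Lib.FormalModH7.IndAdj

/-!
# The right adjoint of derived direct image on complexes with quasi-coherent torsion cohomology
-/

set_option autoImplicit false
set_option linter.style.haveILetI false
set_option linter.unusedSectionVars false
set_option backward.isDefEq.respectTransparency false
set_option backward.isDefEq.respectTransparency.types false
set_option maxHeartbeats 1000000
set_option synthInstance.maxHeartbeats 400000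
set_option synthInstance.maxSize 1024
universe u

open CategoryTheory CategoryTheory.Limits

namespace Groth.Agent.FTorsH7

open FormalModH7

attribute [local instance] HasDerivedCategory.standard

variable {𝔛 : FSch.Sys.{u}} (hN : 𝔛.IsLocNoethFormal)
  [(FTors.IsQCT 𝔛 hN.1).ContainsZero] [(FTors.IsQCT 𝔛 hN.1).IsClosedUnderKernels]
  [(FTors.IsQCT 𝔛 hN.1).IsClosedUnderCokernels] [(FTors.IsQCT 𝔛 hN.1).IsClosedUnderFiniteProducts]
  [PreservesFiniteLimits (FTors.IsQCT 𝔛 hN.1).ι]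

theorem isClosedUnderColimits_isQCT (J : Type u) [SmallCategory J] :
    (FTors.IsQCT 𝔛 hN.1).IsClosedUnderColimitsOfShape J := by
  refine ⟨fun X hX => ?_⟩
  obtain ⟨data⟩ := hX
  exact isQCT_colimit hN data.diag (Cocone.mk _ data.ι) data.isColimit data.prop_diag_obj

theorem isGrothendieckAbelian_isQCT : IsGrothendieckAbelian.{u} (FTors.IsQCT 𝔛 hN.1).FullSubcategory := by
  haveI := fun (J : Type u) [SmallCategory J] => isClosedUnderColimits_isQCT hN J
  let Q : ObjectProperty (FSch.ModF 𝔛 hN.1) := fun M =>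
    SheafOfModules.IsFinitePresentation (R := ModSite.ringSh (𝔛.Osh hN.1)) M ∧ FTors.IsTors (fam hN) M
  haveI : Q.IsClosedUnderIsomorphisms :=
    ⟨fun e h => ⟨(SheafOfModules.isFinitePresentation (R := ModSite.ringSh (𝔛.Osh hN.1))).prop_of_iso e h.1,
      isTors_of_iso e h.2⟩⟩
  obtain ⟨A, G, hG, hA⟩ := exists_small_of_finiteType (𝔛.Osh hN.1) Q fun M h => by
    haveI := h.1
    infer_instance
  refine DerAdj.isGrothendieckAbelian_fullSubcategory (FTors.IsQCT 𝔛 hN.1) G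
    (fun a => (isQCT_iff hN _).2 ⟨(hG a).2, ind_coh hN (hG a).1⟩) fun X hX => ?_
  obtain ⟨hXt, hXi⟩ := (isQCT_iff hN X).1 hX
  haveI := hX.2
  obtain ⟨A', C, f, hC, hf⟩ := exists_covers hN hXi
  obtain ⟨J, i₁, i₂, pres, hp, hm⟩ := exists_mono_pres hN hC hf
  exact ⟨J, i₁, pres, fun j => hA _ ⟨hp j, @isTors_of_mono _ _ _ _ _ _ _ (pres.ι.app j) (hm j) hXt⟩⟩

variable [PreservesFiniteColimits (FTors.IsQCT 𝔛 hN.1).ι] [CompactSpace (𝔛.X 0)] {𝔜 : FSch.Sys.{u}}
  (h𝔜 : 𝔜.IsFormal) (f : 𝔛 ⟶ 𝔜) [SiteCmp.HasRpushD (FSch.homMor f hN.1 h𝔜)]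

theorem isLeftAdjoint_mapDerived_rpushD_isQCT :
    ((FTors.IsQCT 𝔛 hN.1).ι.mapDerivedCategory ⋙ SiteCmp.RpushD (FSch.homMor f hN.1 h𝔜)).IsLeftAdjoint := by
  haveI := isGrothendieckAbelian_isQCT hN
  haveI := fun (J : Type u) [SmallCategory J] => isClosedUnderColimits_isQCT hN J
  let Φ := (FTors.IsQCT 𝔛 hN.1).ι.mapDerivedCategory
  let R := SiteCmp.RpushD (FSch.homMor f hN.1 h𝔜)
  obtain ⟨_, _⟩ := SitePAdj.exists_commShift_isTriangulated_rpushD (FSch.homMor f hN.1 h𝔜)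
  haveI : ∀ T : Type u, PreservesColimitsOfShape (Discrete T) (Φ ⋙ R) := fun T => by
    haveI : ∀ K : T → DerivedCategory (FTors.IsQCT 𝔛 hN.1).FullSubcategory,
        PreservesColimit (Discrete.functor K) (Φ ⋙ R) := fun K => by
      haveI : PreservesColimit (Discrete.functor K) Φ := DerAdj.preservesColimit_mapDerivedCategory _ K
      haveI : PreservesColimit (Discrete.functor K ⋙ Φ) R :=
        haveI := preservesColimit_rpushD_ind hN h𝔜 f (fun a => Φ.obj (K a)) fun a i =>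
          ObjectProperty.prop_of_iso _ ((WayOut.mapDerivedHomologyIso (FTors.IsQCT 𝔛 hN.1).ι i).app (K a)).symm
            ((isQCT_iff hN _).1 (((DerivedCategory.homologyFunctor _ i).obj (K a)).property)).2
        preservesColimit_of_iso_diagram _ (Discrete.natIso fun _ => Iso.refl _ :
          Discrete.functor (fun a => Φ.obj (K a)) ≅ Discrete.functor K ⋙ Φ)
      infer_instance
    exact preservesColimitsOfShape_of_discrete _
  haveI : ∀ n : ℤ, (shiftFunctor (DerivedCategory (FTors.IsQCT 𝔛 hN.1).FullSubcategory) n).Additive :=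
    fun n => inferInstance
  haveI : ∀ n : ℤ, (shiftFunctor (DerivedCategory (FSch.ModF 𝔛 hN.1)) n).Additive := fun n => inferInstance
  haveI : ∀ n : ℤ, (shiftFunctor (DerivedCategory (FSch.ModF 𝔜 h𝔜)) n).Additive := fun n => inferInstance
  haveI hΦT : Φ.IsTriangulated := inferInstanceAs (FTors.IsQCT 𝔛 hN.1).ι.mapDerivedCategory.IsTriangulated
  haveI : Φ.Additive := inferInstance
  haveI : R.Additive := inferInstance
  haveI : (Φ ⋙ R).IsTriangulated := inferInstance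
  haveI : (Φ ⋙ R).Additive := inferInstance
  exact RHom.isLeftAdjoint_of_homExact (Φ ⋙ R) (DerAdj.homExact_of_isTriangulated _)

/-- The same on the subcategory of complexes with quasi-coherent torsion cohomology. -/
theorem isLeftAdjoint_ι_rpushD_isDQCT
    (hj : (FTors.IsQCT 𝔛 hN.1).ι.mapDerivedCategory.Full ∧ (FTors.IsQCT 𝔛 hN.1).ι.mapDerivedCategory.Faithful ∧
      ∀ G : DerivedCategory (FSch.ModF 𝔛 hN.1),
        (FTors.IsQCT 𝔛 hN.1).ι.mapDerivedCategory.essImage G ↔ FTors.IsDQCT 𝔛 hN.1 G) :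
    ((FTors.IsDQCT 𝔛 hN.1).ι ⋙ SiteCmp.RpushD (FSch.homMor f hN.1 h𝔜)).IsLeftAdjoint := by
  obtain ⟨hfu, hfa, hei⟩ := hj
  let Φ := (FTors.IsQCT 𝔛 hN.1).ι.mapDerivedCategory
  let L := (FTors.IsDQCT 𝔛 hN.1).lift Φ fun K => (hei _).1 (Φ.obj_mem_essImage K)
  haveI : Φ.Full := hfu
  haveI : Φ.Faithful := hfa
  haveI : L.Faithful := Functor.Faithful.of_comp L (FTors.IsDQCT 𝔛 hN.1).ι
  haveI : L.Full := Functor.Full.of_comp_faithful_iso (Iso.refl (L ⋙ (FTors.IsDQCT 𝔛 hN.1).ι) : _ ≅ Φ)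
  haveI : L.EssSurj := ⟨fun G => by
    obtain ⟨K, ⟨e⟩⟩ := (hei _).2 G.property
    exact ⟨K, ⟨(FTors.IsDQCT 𝔛 hN.1).ι.preimageIso e⟩⟩⟩
  haveI : L.IsEquivalence := { }
  haveI := isLeftAdjoint_mapDerived_rpushD_isQCT hN h𝔜 f
  haveI : (L.asEquivalence.inverse ⋙ (Φ ⋙ SiteCmp.RpushD (FSch.homMor f hN.1 h𝔜))).IsLeftAdjoint := inferInstance
  exact Functor.isLeftAdjoint_of_iso (F := L.asEquivalence.inverse ⋙ (Φ ⋙ SiteCmp.RpushD (FSch.homMor f hN.1 h𝔜)))
    (L.asEquivalence.invFunIdAssoc ((FTors.IsDQCT 𝔛 hN.1).ι ⋙ SiteCmp.RpushD (FSch.homMor f hN.1 h𝔜)))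

end Groth.Agent.FTorsH7
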