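import Groth.Agent.Lib.DerTrunc.Basic
import Mathlib.Algebra.Homology.DerivedCategory.HomologySequence
import Mathlib.Algebra.Homology.DerivedCategory.SingleTriangle
import Mathlib.Algebra.Homology.DerivedCategory.TStructure

/-!
# Dévissage for triangulated functors between derived categories
-/

set_option autoImplicit false
set_option linter.style.haveILetI false
set_option linter.unusedSectionVars false
universe w w' v v' u u'

open CategoryTheory CategoryTheory.Limits CategoryTheory.Pretriangulated
open DerivedCategory.TStructure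

noncomputable section

namespace Groth.Agent.FTorsH7

variable {A : Type u} [Category.{v} A] [Abelian A] [HasDerivedCategory.{w} A]
  {B : Type u'} [Category.{v'} B] [Abelian B] [HasDerivedCategory.{w'} B]
  (F : DerivedCategory A ⥤ DerivedCategory B) [F.CommShift ℤ] [F.IsTriangulated] (P : ObjectProperty B)

/-- Closure of a property of modules under the middle term of exact sequences with five terms. -/
def Five : Prop :=
  ∀ ⦃X₀ X₁ X₂ X₃ X₄ : B⦄ (a : X₀ ⟶ X₁) (b : X₁ ⟶ X₂) (c : X₂ ⟶ X₃) (d : X₃ ⟶ X₄)
    (hab : a ≫ b = 0) (hbc : b ≫ c = 0) (hcd : c ≫ d = 0), (ShortComplex.mk a b hab).Exact →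
    (ShortComplex.mk b c hbc).Exact → (ShortComplex.mk c d hcd).Exact → P X₀ → P X₁ → P X₃ → P X₄ → P X₂

/-- All cohomology objects of the image have the property. -/
def Good (G : DerivedCategory A) : Prop := ∀ i : ℤ, P ((DerivedCategory.homologyFunctor B i).obj (F.obj G))

variable {F P} [P.IsClosedUnderIsomorphisms]

theorem Good.of_iso {G G' : DerivedCategory A} (e : G ≅ G') (h : Good F P G) : Good F P G' :=
  fun i => P.prop_of_iso ((DerivedCategory.homologyFunctor B i).mapIso (F.mapIso e)) (h i)

theorem Good.shift {G : DerivedCategory A} (n : ℤ) (h : Good F P G) : Good F P (G⟦n⟧) := fun i =>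
  P.prop_of_iso ((DerivedCategory.homologyFunctor B i).mapIso ((F.commShiftIso n).app G) ≪≫
    ((DerivedCategory.homologyFunctor B 0).shiftIso n i (n + i) rfl).app (F.obj G)).symm (h (n + i))

variable (hP : Five P)

include hP

/-- Good objects satisfy two out of three in triangles. -/
theorem good_obj₂ (T : Triangle (DerivedCategory A)) (hT : T ∈ distTriang _) (h₁ : Good F P T.obj₁)
    (h₃ : Good F P T.obj₃) : Good F P T.obj₂ := fun i => by
  have hT' := F.map_distinguished T hT
  exact hP _ _ _ _ _ _ _
    (DerivedCategory.HomologySequence.exact₁ _ hT' (i - 1) i (by omega))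
    (DerivedCategory.HomologySequence.exact₂ _ hT' i)
    (DerivedCategory.HomologySequence.exact₃ _ hT' i (i + 1) rfl) (h₃ (i - 1)) (h₁ i) (h₃ i) (h₁ (i + 1))

theorem good_obj₃ (T : Triangle (DerivedCategory A)) (hT : T ∈ distTriang _) (h₁ : Good F P T.obj₁)
    (h₂ : Good F P T.obj₂) : Good F P T.obj₃ := fun i => by
  have hT' := F.map_distinguished T hT
  exact hP _ _ _ _ _ _ _
    (DerivedCategory.HomologySequence.exact₂ _ hT' i)
    (DerivedCategory.HomologySequence.exact₃ _ hT' i (i + 1) rfl)
    (DerivedCategory.HomologySequence.exact₁ _ hT' i (i + 1) rfl)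
    (h₁ i) (h₂ i) (h₁ (i + 1)) (h₂ (i + 1))

theorem good_of_isZero {G G₀ : DerivedCategory A} (hG : IsZero G) (h : Good F P G₀) : Good F P G := fun i => by
  have hz : IsZero ((DerivedCategory.homologyFunctor B i).obj (F.obj G)) :=
    Functor.map_isZero _ (Functor.map_isZero _ hG)
  exact hP (𝟙 ((DerivedCategory.homologyFunctor B i).obj (F.obj G₀))) 0 0
    (𝟙 ((DerivedCategory.homologyFunctor B i).obj (F.obj G₀))) comp_zero comp_zero zero_comp
    ((ShortComplex.exact_iff_epi _ rfl).2 (show Epi (𝟙 _) from inferInstance)) (ShortComplex.exact_of_isZero_X₂ _ hz)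
    ((ShortComplex.exact_iff_mono _ rfl).2 (show Mono (𝟙 _) from inferInstance)) (h i) (h i) (h i) (h i)

omit hP in
theorem good_concentrated (G : DerivedCategory A) (n : ℤ) [G.IsGE n] [G.IsLE n]
    (h : Good F P ((DerivedCategory.singleFunctor A 0).obj ((DerivedCategory.homologyFunctor A n).obj G))) :
    Good F P G := by
  obtain ⟨M, ⟨e⟩⟩ := DerivedCategory.exists_iso_singleFunctor_obj_of_isGE_of_isLE G n
  let eM : (DerivedCategory.homologyFunctor A n).obj G ≅ M :=
    (DerivedCategory.homologyFunctor A n).mapIso e ≪≫ (DerivedCategory.singleFunctorCompHomologyFunctorIso A n).app M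
  exact Good.of_iso (((SingleFunctors.shiftIso (DerivedCategory.singleFunctors A) (-n) n 0 (by omega)).app M) ≪≫ e.symm)
    (Good.shift (-n) (Good.of_iso ((DerivedCategory.singleFunctor A 0).mapIso eM) h))

theorem good_bounded (k : ℕ) : ∀ (G : DerivedCategory A) (a : ℤ), G.IsGE a → G.IsLE (a + k) →
    (∀ q, Good F P ((DerivedCategory.singleFunctor A 0).obj ((DerivedCategory.homologyFunctor A q).obj G))) →
    Good F P G := by
  induction k with
  | zero =>
    intro G a ha hb h
    have : G.IsLE a := by simpa using hb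
    exact good_concentrated G a (h a)
  | succ k ih =>
    intro G a ha hb h
    obtain ⟨b, hbdef⟩ : ∃ b : ℤ, a + (k + 1 : ℕ) = b := ⟨_, rfl⟩
    rw [hbdef] at hb
    have hL : DerivedCategory.IsLE ((t.truncLT b).obj G) (a + k) :=
      t.isLE_truncLT_obj G b (a + k) (by lia)
    have hG : DerivedCategory.IsGE ((t.truncLT b).obj G) a :=
      (inferInstance : t.IsGE ((t.truncLT b).obj G) a)
    have hG₃ : DerivedCategory.IsGE ((t.truncGE b).obj G) b :=
      (inferInstance : t.IsGE ((t.truncGE b).obj G) b)
    have hL₃ : DerivedCategory.IsLE ((t.truncGE b).obj G) b :=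
      (inferInstance : t.IsLE ((t.truncGE b).obj G) b)
    refine good_obj₂ hP _ (t.triangleLTGE_distinguished b G) (ih _ a hG hL fun q => ?_)
      (good_concentrated ((t.truncGE b).obj G) b ?_)
    · by_cases hq : q < b
      · have := DerTrunc.isIso_homology_truncLTι G b q hq
        exact Good.of_iso ((DerivedCategory.singleFunctor A 0).mapIso
          (asIso ((DerivedCategory.homologyFunctor A q).map ((t.truncLTι b).app G)))).symm (h q)
      · exact good_of_isZero hP
          (Functor.map_isZero _ (@DerivedCategory.isZero_of_isLE _ _ _ _ ((t.truncLT b).obj G) (a + k) q (by lia) hL)) (h b)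
    · have := DerTrunc.isIso_homology_truncGEπ G b b le_rfl
      exact Good.of_iso ((DerivedCategory.singleFunctor A 0).mapIso
        (asIso ((DerivedCategory.homologyFunctor A b).map ((t.truncGEπ b).app G)))) (h b)

/-- Dévissage for a functor of finite amplitude on the objects whose cohomology has a property. -/
theorem good_of_amplitude (Q : ObjectProperty A) (hQ : ∀ M, Q M → Good F P ((DerivedCategory.singleFunctor A 0).obj M))
    (hQ0 : ∀ M, IsZero M → Q M) [Q.IsClosedUnderIsomorphisms] (d : ℕ)
    (hGE : ∀ (X : DerivedCategory A) (a : ℤ), X.IsGE a → (F.obj X).IsGE a)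
    (hLE : ∀ (X : DerivedCategory A) (e : ℤ), (∀ i, Q ((DerivedCategory.homologyFunctor A i).obj X)) →
      (∀ i, e < i → IsZero ((DerivedCategory.homologyFunctor A i).obj X)) →
      ∀ m, e + d < m → IsZero ((DerivedCategory.homologyFunctor B m).obj (F.obj X)))
    (G : DerivedCategory A) (hG : ∀ i, Q ((DerivedCategory.homologyFunctor A i).obj G)) : Good F P G := fun i => by
  let a : ℤ := i - d - 1
  let G₁ := (t.truncGE a).obj G
  have hG₁ : DerivedCategory.IsGE G₁ a := (inferInstance : t.IsGE ((t.truncGE a).obj G) a)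
  have hL₀ : DerivedCategory.IsLE ((t.truncLT a).obj G) (a - 1) :=
    (inferInstance : t.IsLE ((t.truncLT a).obj G) (a - 1))
  have hQ₀ : ∀ q, Q ((DerivedCategory.homologyFunctor A q).obj ((t.truncLT a).obj G)) := fun q => by
    by_cases hq : q < a
    · have := DerTrunc.isIso_homology_truncLTι G a q hq
      exact Q.prop_of_iso (asIso ((DerivedCategory.homologyFunctor A q).map ((t.truncLTι a).app G))).symm (hG q)
    · exact hQ0 _ (DerivedCategory.isZero_of_isLE _ (a - 1) q (by omega))
  have hQ₁ : ∀ q, Q ((DerivedCategory.homologyFunctor A q).obj G₁) := fun q => by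
    by_cases hq : a ≤ q
    · have := DerTrunc.isIso_homology_truncGEπ G a q hq
      exact Q.prop_of_iso (asIso ((DerivedCategory.homologyFunctor A q).map ((t.truncGEπ a).app G))) (hG q)
    · exact hQ0 _ (DerivedCategory.isZero_of_isGE _ a q (by omega))
  have hz : ∀ m, i ≤ m → IsZero ((DerivedCategory.homologyFunctor B m).obj (F.obj ((t.truncLT a).obj G))) :=
    fun m hm => hLE _ (a - 1) hQ₀ (fun q hq => DerivedCategory.isZero_of_isLE _ (a - 1) q hq) m (by omega)
  have hT := F.map_distinguished _ (t.triangleLTGE_distinguished a G)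
  have e1 : IsIso ((DerivedCategory.homologyFunctor B i).map (F.map ((t.truncGEπ a).app G))) := by
    haveI : Mono ((DerivedCategory.homologyFunctor B i).map (F.map ((t.truncGEπ a).app G))) :=
      (DerivedCategory.HomologySequence.exact₂ _ hT i).mono_g ((hz i le_rfl).eq_of_src _ _)
    haveI : Epi ((DerivedCategory.homologyFunctor B i).map (F.map ((t.truncGEπ a).app G))) :=
      (DerivedCategory.HomologySequence.exact₃ _ hT i (i + 1) rfl).epi_f ((hz (i + 1) (by omega)).eq_of_tgt _ _)
    exact isIso_of_mono_of_epi _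
  refine P.prop_of_iso (asIso ((DerivedCategory.homologyFunctor B i).map (F.map ((t.truncGEπ a).app G)))).symm ?_
  let G₂ := (t.truncLT (i + 1)).obj G₁
  have hG₂ : DerivedCategory.IsGE G₂ a := (inferInstance : t.IsGE ((t.truncLT (i + 1)).obj G₁) a)
  have hL₂ : DerivedCategory.IsLE G₂ (a + (d + 1 : ℕ)) := t.isLE_truncLT_obj G₁ (i + 1) _ (by omega)
  have hgood : Good F P G₂ := good_bounded hP (d + 1) G₂ a hG₂ hL₂ fun q => by
    by_cases hq : q < i + 1
    · have := DerTrunc.isIso_homology_truncLTι G₁ (i + 1) q hq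
      exact Good.of_iso ((DerivedCategory.singleFunctor A 0).mapIso
        (asIso ((DerivedCategory.homologyFunctor A q).map ((t.truncLTι (i + 1)).app G₁)))).symm (hQ _ (hQ₁ q))
    · exact hQ _ (hQ0 _ (DerivedCategory.isZero_of_isLE G₂ (a + (d + 1 : ℕ)) q (by omega)))
  have hG₃ : DerivedCategory.IsGE ((t.truncGE (i + 1)).obj G₁) (i + 1) :=
    (inferInstance : t.IsGE ((t.truncGE (i + 1)).obj G₁) (i + 1))
  have hR₃ := hGE _ _ hG₃
  have hT₁ := F.map_distinguished _ (t.triangleLTGE_distinguished (i + 1) G₁)
  have e2 : IsIso ((DerivedCategory.homologyFunctor B i).map (F.map ((t.truncLTι (i + 1)).app G₁))) := by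
    haveI : Mono ((DerivedCategory.homologyFunctor B i).map (F.map ((t.truncLTι (i + 1)).app G₁))) :=
      (DerivedCategory.HomologySequence.exact₁ _ hT₁ (i - 1) i (by omega)).mono_g
        ((@DerivedCategory.isZero_of_isGE _ _ _ _ (F.obj ((t.truncGE (i + 1)).obj G₁)) (i + 1) (i - 1) (by omega) hR₃).eq_of_src _ _)
    haveI : Epi ((DerivedCategory.homologyFunctor B i).map (F.map ((t.truncLTι (i + 1)).app G₁))) :=
      (DerivedCategory.HomologySequence.exact₂ _ hT₁ i).epi_f
        ((@DerivedCategory.isZero_of_isGE _ _ _ _ (F.obj ((t.truncGE (i + 1)).obj G₁)) (i + 1) i (by omega) hR₃).eq_of_tgt _ _)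
    exact isIso_of_mono_of_epi _
  exact P.prop_of_iso (asIso ((DerivedCategory.homologyFunctor B i).map (F.map ((t.truncLTι (i + 1)).app G₁)))) (hgood i)

end Groth.Agent.FTorsH7
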