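import Groth.Agent.Lib.FTorsH7.RpushDev
import Groth.Agent.Lib.FormalModH7.DerAdj

/-!
# Dévissage along a left resolution of bounded usefulness
-/

set_option autoImplicit false
set_option linter.style.haveILetI false
set_option linter.unusedSectionVars false
set_option backward.isDefEq.respectTransparency false
universe w w' v v' u u'

open CategoryTheory CategoryTheory.Limits CategoryTheory.Pretriangulated

noncomputable section

namespace Groth.Agent.FTorsH7

variable {A : Type u} [Category.{v} A] [Abelian A] [HasDerivedCategory.{w} A]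
  {B : Type u'} [Category.{v'} B] [Abelian B] [HasDerivedCategory.{w'} B]
  {F : DerivedCategory A ⥤ DerivedCategory B} [F.CommShift ℤ] [F.IsTriangulated] {P : ObjectProperty B}
  [P.IsClosedUnderIsomorphisms] (hP : Five P) (Q : ObjectProperty A)
  (hcov : ∀ M, Q M → ∃ (M₀ : A) (p : M₀ ⟶ M), Epi p ∧ Q (kernel p) ∧
    Good F P ((DerivedCategory.singleFunctor A 0).obj M₀))

include hP hcov

/-- Every object is an extension of a shifted object by a good one. -/
theorem exists_triangle_good (M : A) (hM : Q M) (L : ℕ) :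
    ∃ (Z : A) (G : DerivedCategory A) (a : ((DerivedCategory.singleFunctor A 0).obj Z)⟦(L : ℤ)⟧ ⟶ G)
      (b : G ⟶ (DerivedCategory.singleFunctor A 0).obj M) (c : (DerivedCategory.singleFunctor A 0).obj M ⟶ _),
      Triangle.mk a b c ∈ distTriang _ ∧ Q Z ∧ Good F P G := by
  induction L with
  | zero =>
    obtain ⟨M₀, p, hp, hk, hg⟩ := hcov M hM
    have hS : (ShortComplex.mk (kernel.ι p) p (kernel.condition p)).ShortExact :=
      { exact := ShortComplex.exact_of_f_is_kernel _ (kernelIsKernel p) }
    let e : ((DerivedCategory.singleFunctor A 0).obj (kernel p))⟦((0 : ℕ) : ℤ)⟧ ≅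
        (DerivedCategory.singleFunctor A 0).obj (kernel p) := (shiftFunctorZero (DerivedCategory A) ℤ).app _
    refine ⟨_, _, e.hom ≫ (DerivedCategory.singleFunctor A 0).map (kernel.ι p),
      (DerivedCategory.singleFunctor A 0).map p, hS.singleδ ≫ e.inv⟦(1 : ℤ)⟧', ?_, hk, hg⟩
    refine isomorphic_distinguished _ hS.singleTriangle_distinguished _
      (Triangle.isoMk _ _ e (Iso.refl _) (Iso.refl _) ?_ ?_ ?_)
    · simp [ShortComplex.ShortExact.singleTriangle]
    · simp [ShortComplex.ShortExact.singleTriangle]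
    · simp [ShortComplex.ShortExact.singleTriangle, ← Functor.map_comp]
  | succ L ih =>
    obtain ⟨Z, G, a, b, c, hT, hZ, hG⟩ := ih
    obtain ⟨M₀, p, hp, hk, hg⟩ := hcov Z hZ
    have hS : (ShortComplex.mk (kernel.ι p) p (kernel.condition p)).ShortExact :=
      { exact := ShortComplex.exact_of_f_is_kernel _ (kernelIsKernel p) }
    let T₀ := ((Triangle.shiftFunctor (DerivedCategory A) (L : ℤ)).obj hS.singleTriangle).rotate
    have hT₀ : T₀ ∈ distTriang _ := rot_of_distTriang _ (Triangle.shift_distinguished _ hS.singleTriangle_distinguished _)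
    let u₁ : T₀.obj₁ ⟶ G := T₀.mor₁ ≫ a
    obtain ⟨G', v, x, h₁₃⟩ := distinguished_cocone_triangle u₁
    let o := Triangulated.someOctahedron (rfl : T₀.mor₁ ≫ a = u₁) hT₀ hT h₁₃
    let e : ((DerivedCategory.singleFunctor A 0).obj (kernel p))⟦((L + 1 : ℕ) : ℤ)⟧ ≅ T₀.obj₃ :=
      (shiftFunctorAdd' (DerivedCategory A) (L : ℤ) 1 _ (by push_cast; rfl)).app _
    refine ⟨_, G', e.hom ≫ o.m₁, o.m₃, (c ≫ T₀.mor₂⟦(1 : ℤ)⟧') ≫ e.inv⟦(1 : ℤ)⟧', ?_, hk,
      good_obj₃ hP _ h₁₃ (Good.shift (L : ℤ) hg) hG⟩
    refine isomorphic_distinguished _ o.mem _ (Triangle.isoMk _ _ e (Iso.refl _) (Iso.refl _) ?_ ?_ ?_)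
    · simp
    · simp
    · simp [← Functor.map_comp]; rfl

/-- Objects with resolutions by good ones are good for functors of finite amplitude. -/
theorem good_of_resolution (d : ℕ)
    (hd : ∀ M, Q M → ∀ m : ℤ, (d : ℤ) < m →
      IsZero ((DerivedCategory.homologyFunctor B m).obj (F.obj ((DerivedCategory.singleFunctor A 0).obj M))))
    (M : A) (hM : Q M) : Good F P ((DerivedCategory.singleFunctor A 0).obj M) := fun i => by
  let L : ℕ := (d + 1 - i).toNat
  obtain ⟨Z, G, a, b, c, hT, hZ, hG⟩ := exists_triangle_good hP Q hcov M hM L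
  have hz : ∀ j, i ≤ j → IsZero ((DerivedCategory.homologyFunctor B j).obj
      (F.obj (((DerivedCategory.singleFunctor A 0).obj Z)⟦(L : ℤ)⟧))) := fun j hj =>
    (hd Z hZ ((L : ℤ) + j) (by omega)).of_iso ((DerivedCategory.homologyFunctor B j).mapIso
      ((F.commShiftIso (L : ℤ)).app _) ≪≫
      ((DerivedCategory.homologyFunctor B 0).shiftIso (L : ℤ) j ((L : ℤ) + j) rfl).app _)
  have hT' := F.map_distinguished _ hT
  haveI : Mono ((DerivedCategory.homologyFunctor B i).map (F.map b)) :=
    (DerivedCategory.HomologySequence.exact₂ _ hT' i).mono_g ((hz i le_rfl).eq_of_src _ _)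
  haveI : Epi ((DerivedCategory.homologyFunctor B i).map (F.map b)) :=
    (DerivedCategory.HomologySequence.exact₃ _ hT' i (i + 1) rfl).epi_f ((hz (i + 1) (by omega)).eq_of_tgt _ _)
  haveI : IsIso ((DerivedCategory.homologyFunctor B i).map (F.map b)) := isIso_of_mono_of_epi _
  exact P.prop_of_iso (asIso ((DerivedCategory.homologyFunctor B i).map (F.map b))) (hG i)

omit [F.CommShift ℤ] [F.IsTriangulated] [P.IsClosedUnderIsomorphisms] hP hcov in
/-- Sums of good single objects are good. -/
theorem good_sigma [IsGrothendieckAbelian.{v} A] [P.IsClosedUnderIsomorphisms] {T : Type v} (C : T → A)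
    [PreservesColimit (Discrete.functor fun t => (DerivedCategory.singleFunctor A 0).obj (C t)) F]
    [∀ i, PreservesColimitsOfShape (Discrete T) (DerivedCategory.homologyFunctor B i)]
    [HasColimitsOfShape (Discrete T) B] [P.IsClosedUnderColimitsOfShape (Discrete T)]
    (h : ∀ t, Good F P ((DerivedCategory.singleFunctor A 0).obj (C t))) :
    Good F P ((DerivedCategory.singleFunctor A 0).obj (∐ C)) := fun i => by
  let S := DerivedCategory.singleFunctor A 0
  haveI : PreservesColimit (Discrete.functor C) S := by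
    haveI : PreservesColimit (Discrete.functor C ⋙ CochainComplex.singleFunctor A 0)
        (DerivedCategory.Q : CochainComplex A ℤ ⥤ DerivedCategory A) :=
      haveI := DerAdj.preservesColimit_Q (A := A) (fun t => (CochainComplex.singleFunctor A 0).obj (C t))
      preservesColimit_of_iso_diagram _ (Discrete.natIso fun _ => Iso.refl _ :
        Discrete.functor (fun t => (CochainComplex.singleFunctor A 0).obj (C t)) ≅
          Discrete.functor C ⋙ CochainComplex.singleFunctor A 0)
    haveI : PreservesColimit (Discrete.functor C) (CochainComplex.singleFunctor A 0) :=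
      inferInstanceAs (PreservesColimit (Discrete.functor C) (HomologicalComplex.single A (ComplexShape.up ℤ) 0))
    exact preservesColimit_of_natIso _ (DerivedCategory.singleFunctorIsoCompQ A 0).symm
  haveI : PreservesColimit (Discrete.functor C ⋙ S) F :=
    preservesColimit_of_iso_diagram _ (Discrete.natIso fun _ => Iso.refl _ :
      Discrete.functor (fun t => S.obj (C t)) ≅ Discrete.functor C ⋙ S)
  exact P.prop_of_isColimit (isColimitOfPreserves (S ⋙ F ⋙ DerivedCategory.homologyFunctor B i)
    (coproductIsCoproduct C)) fun j => h j.as i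

end Groth.Agent.FTorsH7
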