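import Groth.Agent.Lib.FTorsH7.LevelZero
import Groth.Agent.Lib.FormalModH7.AffPush
import Groth.Agent.Lib.RDComp.Acyclic
import Groth.Agent.Lib.BigSite16.BaseChange
import Groth.Agent.Lib.CohFound.RpushCoh
import Groth.Agent.Lib.ExtSupp8.AcyclicClass

/-!
# Higher direct images of modules on a level
-/

set_option autoImplicit false
set_option linter.style.haveILetI false
set_option linter.unusedSectionVars false
set_option backward.isDefEq.respectTransparency false
set_option backward.isDefEq.respectTransparency.types false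
universe u

open CategoryTheory CategoryTheory.Limits AlgebraicGeometry Opposite TopologicalSpace

noncomputable section

namespace Groth.Agent.FTorsH7

open FormalModH7 ModFlat16

section Exact

variable {𝔛 : FSch.Sys.{u}} (hN : 𝔛.IsLocNoethFormal) (k : ℕ)

/-- Modules on a level, on the formal scheme. -/
abbrev jF : (𝔛.X k).Modules ⥤ FSch.ModF 𝔛 hN.1 := (FSch.levelMor 𝔛 hN.1 k).push

instance additive_jF : (jF hN k).Additive := inferInstanceAs (FSch.levelMor 𝔛 hN.1 k).push.Additive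

instance preservesFiniteLimits_jF : PreservesFiniteLimits (jF hN k) :=
  haveI := (FSch.levelMor 𝔛 hN.1 k).adj.rightAdjoint_preservesLimits
  inferInstance

theorem epi_jF {A B : (𝔛.X k).Modules} (φ : A ⟶ B) [Epi φ] : Epi ((jF hN k).map φ) := by
  refine epi_of_locally _ fun U t => ?_
  obtain ⟨S, hS, h⟩ := ExtSupp8.exists_local_preimage φ (V := 𝔛.lvU hN.1 k U) t
  refine ⟨{ arrows := fun W _ => ∃ (W' : (𝔛.X k).Opens) (l : W' ⟶ 𝔛.lvU hN.1 k U), S l ∧ 𝔛.lvU hN.1 k W ≤ W'
            downward_closed := fun ⟨W', l, h1, h2⟩ g => ⟨W', l, h1, (lvU_mono hN.1 g.le k).trans h2⟩ },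
    fun x hx => ?_, fun W l hl => ?_⟩
  · have hx' : (𝔛.levelHomeo hN.1 k x) ∈ 𝔛.lvU hN.1 k U := by
      show (𝔛.levelHomeo hN.1 k).symm (𝔛.levelHomeo hN.1 k x) ∈ U
      rw [Homeomorph.symm_apply_apply]; exact hx
    obtain ⟨W', l, hl, hxW'⟩ := hS _ hx'
    refine ⟨lvInv k W' ⊓ U, homOfLE inf_le_right, ⟨W', l, hl, (lvU_mono hN.1 inf_le_left k).trans
      (lvU_lvInv hN.1 k W').le⟩, ⟨hxW', hx⟩⟩
  · obtain ⟨W', m, hm, hle⟩ := hl
    obtain ⟨s, hs⟩ := h m hm
    refine ⟨smap A (homOfLE hle) s, ?_⟩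
    show φ.val.app (op (𝔛.lvU hN.1 k W)) (smap A (homOfLE hle) s) = _
    rw [app_smap, show φ.val.app (op W') s = smap B m t from hs, ← smap_comp]
    rfl

instance preservesEpimorphisms_jF : (jF hN k).PreservesEpimorphisms := ⟨fun φ _ => epi_jF hN k φ⟩

instance preservesHomology_jF : (jF hN k).PreservesHomology :=
  Functor.preservesHomology_of_preservesEpis_and_kernels _

instance preservesFiniteColimits_jF : PreservesFiniteColimits (jF hN k) :=
  Functor.preservesFiniteColimits_of_preservesHomology _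

end Exact

variable {𝔛 𝔜 : FSch.Sys.{u}} (hX : 𝔛.IsLocNoethFormal) (hY : 𝔜.IsLocNoethFormal) (f : 𝔛 ⟶ 𝔜) (k : ℕ)

/-- The two inverse images of opens along the square of a level. -/
def sqOpens :
    Opens.map (𝔜.gInv hY.1 k) ⋙ Opens.map ((f : FSch.Hom 𝔛 𝔜).app k).base ≅
      Opens.map ((f : FSch.Hom 𝔛 𝔜).app 0).base ⋙ Opens.map (𝔛.gInv hX.1 k) :=
  NatIso.ofComponents (fun U => eqToIso (FSch.Hom.lvU_preimage f hX.1 hY.1 k U)) fun _ => Subsingleton.elim _ _

/-- Direct images commute with the levels. -/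
def jPushIso :
    jF hX k ⋙ FSch.pushF f hX.1 hY.1 ≅ Scheme.Modules.pushforward ((f : FSch.Hom 𝔛 𝔜).app k) ⋙ jF hY k :=
  haveI := Functor.isContinuous_comp (Opens.map ((f : FSch.Hom 𝔛 𝔜).app 0).base) (Opens.map (𝔛.gInv hX.1 k))
    (Opens.grothendieckTopology (𝔜.X 0).carrier) (Opens.grothendieckTopology (𝔛.X 0).carrier)
    (Opens.grothendieckTopology (𝔛.X k).carrier)
  haveI := Functor.isContinuous_comp (Opens.map (𝔜.gInv hY.1 k)) (Opens.map ((f : FSch.Hom 𝔛 𝔜).app k).base)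
    (Opens.grothendieckTopology (𝔜.X 0).carrier) (Opens.grothendieckTopology (𝔜.X k).carrier)
    (Opens.grothendieckTopology (𝔛.X k).carrier)
  SheafOfModules.pushforwardComp (FSch.homMor f hX.1 hY.1).sharpR (FSch.levelMor 𝔛 hX.1 k).sharpR ≪≫
    SheafOfModules.pushforwardNatIso _ (sqOpens hX hY f k) ≪≫
    SheafOfModules.pushforwardCongr (by
      apply Sheaf.hom_ext
      ext U x
      change (𝔛.X k).presheaf.map (eqToHom (FSch.Hom.lvU_preimage f hX.1 hY.1 k U.unop)).op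
          (((𝔛.OshProj hX.1 k).hom.app (op (((f : FSch.Hom 𝔛 𝔜).app 0) ⁻¹ᵁ U.unop)))
            ((FSch.Hom.sharp f hX.1 hY.1).hom.app U x)) =
        ((f : FSch.Hom 𝔛 𝔜).app k).app (𝔜.lvU hY.1 k U.unop) ((𝔜.OshProj hY.1 k).hom.app U x)
      have h := congrArg (fun φ => φ.hom.app U x) (FSch.Hom.sharp_proj f hX.1 hY.1 k)
      refine (congrArg _ h).trans ?_
      show (((f : FSch.Hom 𝔛 𝔜).app k).appLE _ _ _ ≫ (𝔛.X k).presheaf.map _) _ = _
      rw [Scheme.Hom.appLE_map, Scheme.Hom.appLE_eq_app]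
      rfl) ≪≫
    (SheafOfModules.pushforwardComp (FSch.levelMor 𝔜 hY.1 k).sharpR ((f : FSch.Hom 𝔛 𝔜).app k).toRingCatSheafHom).symm

theorem isAcyclicObj_jF_injective [HasInjectiveResolutions (FSch.ModF 𝔛 hX.1)] (I : (𝔛.X k).Modules) [Injective I] :
    RFPlus.IsAcyclicObj (FSch.pushF f hX.1 hY.1) ((jF hX k).obj I) := fun i hi => by
  obtain ⟨n, rfl⟩ := Nat.exists_eq_succ_of_ne_zero (by omega : i ≠ 0)
  refine isZero_rightDerived_of_affAcyclic hX hY.1 f n _ fun V _ q => ?_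
  haveI : TopCat.Sheaf.IsFlasque ((abFs hX).obj ((jF hX k).obj I)) :=
    CohFound.isFlasque_mk _ fun U W h s =>
      CohFound.surjective_map_of_injective (ModSite.ringSh (𝔛.X k).sheaf) I inferInstance (lvU_mono hX.1 h k) s
  exact CohFound.subsingleton_hc_of_isFlasque _ q _

/-- Higher direct images of modules on a level. -/
theorem nonempty_rpushF_jF_iso [HasInjectiveResolutions (FSch.ModF 𝔛 hX.1)] (G : (𝔛.X k).Modules) (q : ℕ) :
    Nonempty ((FSch.RpushF f hX.1 hY.1 q).obj ((jF hX k).obj G) ≅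
      (jF hY k).obj ((Coh.Rpush ((f : FSch.Hom 𝔛 𝔜).app k) q).obj G)) := by
  haveI : IsGrothendieckAbelian.{u} (FSch.ModF 𝔛 hX.1) :=
    CohFound.isGrothendieckAbelian_sheafOfModules (ModSite.ringSh (𝔛.Osh hX.1))
  haveI := IsGrothendieckAbelian.enoughInjectives (C := FSch.ModF 𝔛 hX.1)
  haveI : PreservesFiniteLimits (FSch.pushF f hX.1 hY.1) :=
    haveI := (FSch.homMor f hX.1 hY.1).adj.rightAdjoint_preservesLimits
    inferInstance
  obtain ⟨e⟩ := RDComp.nonempty_rightDerivedAcyclicIso (jF hX k) (FSch.pushF f hX.1 hY.1)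
    (fun I hI => @isAcyclicObj_jF_injective _ _ hX hY f k _ I hI) q
  haveI : (Scheme.Modules.pushforward ((f : FSch.Hom 𝔛 𝔜).app k)).Additive := inferInstance
  obtain ⟨e'⟩ := BigSite16.nonempty_rightDerived_comp (Scheme.Modules.pushforward ((f : FSch.Hom 𝔛 𝔜).app k))
    (jF hY k) G q
  let θ := jPushIso hX hY f k
  exact ⟨(e.app G).symm ≪≫
    { hom := (NatTrans.rightDerived θ.hom q).app G
      inv := (NatTrans.rightDerived θ.inv q).app G
      hom_inv_id := by rw [← NatTrans.comp_app, ← NatTrans.rightDerived_comp, Iso.hom_inv_id, NatTrans.rightDerived_id]; rfl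
      inv_hom_id := by rw [← NatTrans.comp_app, ← NatTrans.rightDerived_comp, Iso.inv_hom_id, NatTrans.rightDerived_id]; rfl } ≪≫
    e'.symm⟩

end Groth.Agent.FTorsH7
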