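import Groth.Agent.Lib.FTorsH7.RpushGen
import Groth.Agent.Lib.FTorsH7.RpushLevel
import Groth.Agent.Lib.FormalModH7.RpushSigma
import Groth.Agent.Lib.SiteCmp16.RpushTrunc
import Groth.Agent.Lib.DPush.QCoh

/-!
# Derived direct images of quasi-coherent torsion modules
-/

set_option autoImplicit false
set_option linter.style.haveILetI false
set_option linter.unusedSectionVars false
set_option backward.isDefEq.respectTransparency false
set_option backward.isDefEq.respectTransparency.types false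
set_option maxHeartbeats 1000000
set_option synthInstance.maxHeartbeats 400000
set_option synthInstance.maxSize 1024
universe u

open CategoryTheory CategoryTheory.Limits AlgebraicGeometry Opposite TopologicalSpace

noncomputable section

namespace Groth.Agent.FTorsH7

open FormalModH7 ModFlat16

section Modules

variable {𝔛 : FSch.Sys.{u}} (hN : 𝔛.IsLocNoethFormal)

theorem isFinitePresentation_of_five [CompactSpace (𝔛.X 0)] {X₀ X₁ X₂ X₃ X₄ : FSch.ModF 𝔛 hN.1} (a : X₀ ⟶ X₁)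
    (b : X₁ ⟶ X₂) (c : X₂ ⟶ X₃) (d : X₃ ⟶ X₄)
    (hab : a ≫ b = 0) (hbc : b ≫ c = 0) (hcd : c ≫ d = 0) (e₁ : (ShortComplex.mk a b hab).Exact)
    (e₂ : (ShortComplex.mk b c hbc).Exact) (e₃ : (ShortComplex.mk c d hcd).Exact)
    (h₀ : FSch.IsCohF 𝔛 hN.1 X₀) (h₁ : FSch.IsCohF 𝔛 hN.1 X₁) (h₃ : FSch.IsCohF 𝔛 hN.1 X₃)
    (h₄ : FSch.IsCohF 𝔛 hN.1 X₄) (hq : SheafOfModules.IsQuasicoherent.{u} X₂) : FSch.IsCohF 𝔛 hN.1 X₂ := by
  haveI := h₀; haveI := h₁; haveI := h₃; haveI := h₄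
  haveI := isFinitePresentation_coker (hN := hN) a
  haveI := isFinitePresentation_kernel (hN := hN) d
  let i : cokernel a ⟶ X₂ := cokernel.desc a b hab
  let p : X₂ ⟶ kernel d := kernel.lift d c hcd
  haveI : Epi p := e₃.epi_kernelLift
  haveI : SheafOfModules.IsFiniteType (R := ModSite.ringSh (𝔛.Osh hN.1)) X₂ :=
    isFiniteType_of_ext i p fun U v hv => by
      have hc : c.val.app (op U) v = 0 := by
        have h1 : p ≫ kernel.ι d = c := kernel.lift_ι _ _ _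
        rw [← h1]
        show (kernel.ι d).val.app (op U) (p.val.app (op U) v) = 0
        rw [hv, map_zero]
      obtain ⟨T, hT, hh⟩ := exists_locally_of_exact e₂ v hc
      refine ⟨T, hT, fun W m hm => ?_⟩
      obtain ⟨t, ht⟩ := hh m hm
      exact ⟨(cokernel.π a).val.app (op W) t, (congrArg (fun q => q.val.app (op W) t) (cokernel.π_desc a b hab)).trans ht⟩
  exact isFinitePresentation_of_qcoh (hN := hN) (hq := hq)

/-- Coherent torsion modules. -/
def CohTors : ObjectProperty (FSch.ModF 𝔛 hN.1) := fun M => FTors.IsQCT 𝔛 hN.1 M ∧ FSch.IsCohF 𝔛 hN.1 M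

instance : (CohTors hN).IsClosedUnderIsomorphisms :=
  ⟨fun e h => ⟨isQCT_of_iso hN e h.1,
    (SheafOfModules.isFinitePresentation (R := ModSite.ringSh (𝔛.Osh hN.1))).prop_of_iso e h.2⟩⟩

theorem isQCT_of_isZero {M : FSch.ModF 𝔛 hN.1} (h : IsZero M) : FTors.IsQCT 𝔛 hN.1 M := by
  obtain ⟨Z, hZ⟩ : ∃ Z : (𝔛.X 0).Modules, IsZero Z := HasZeroObject.zero
  haveI : Coh.IsQCoh Z := DPush.isQCoh_of_isZero hZ
  exact isQCT_of_iso hN (IsZero.iso (Functor.map_isZero (jF hN 0) hZ) h) (isQCT_jPush hN 0 Z)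

theorem five_isQCT [CompactSpace (𝔛.X 0)] : Five (FTors.IsQCT 𝔛 hN.1) :=
  fun _ _ _ _ _ a b c d hab hbc hcd e₁ e₂ e₃ h₀ h₁ h₃ h₄ =>
    ⟨isTors_X₂ (hN := hN) (S := ShortComplex.mk b c hbc) e₂ h₁.1 h₃.1,
      @isQuasicoherent_of_five _ hN _ _ _ _ _ a b c d hab hbc hcd e₁ e₂ e₃ h₀.2 h₁.2 h₃.2 h₄.2⟩

theorem five_cohTors [CompactSpace (𝔛.X 0)] : Five (CohTors hN) :=
  fun _ _ _ _ _ a b c d hab hbc hcd e₁ e₂ e₃ h₀ h₁ h₃ h₄ =>
    have h := five_isQCT hN a b c d hab hbc hcd e₁ e₂ e₃ h₀.1 h₁.1 h₃.1 h₄.1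
    ⟨h, isFinitePresentation_of_five hN a b c d hab hbc hcd e₁ e₂ e₃ h₀.2 h₁.2 h₃.2 h₄.2 h.2⟩

theorem cohTors_of_isZero [CompactSpace (𝔛.X 0)] {M : FSch.ModF 𝔛 hN.1} (h : IsZero M) : CohTors hN M := by
  refine ⟨isQCT_of_isZero hN h, ?_⟩
  haveI : SheafOfModules.IsFiniteType (R := ModSite.ringSh (𝔛.Osh hN.1)) M := by
    haveI := isFinitePresentation_unit (O := 𝔛.Osh hN.1)
    haveI : SheafOfModules.IsFiniteType (R := ModSite.ringSh (𝔛.Osh hN.1)) (FSch.unitF 𝔛 hN.1) :=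
      (inferInstance : SheafOfModules.IsFiniteType.{u} (R := ModSite.ringSh (𝔛.Osh hN.1)) (SheafOfModules.unit (ModSite.ringSh (𝔛.Osh hN.1))))
    haveI : Epi (0 : FSch.unitF 𝔛 hN.1 ⟶ M) := ⟨fun g g' _ => h.eq_of_src g g'⟩
    exact isFiniteType_of_epi hN (0 : FSch.unitF 𝔛 hN.1 ⟶ M)
  exact isFinitePresentation_of_qcoh (hN := hN) (hq := (isQCT_of_isZero hN h).2)

end Modules

attribute [local instance] HasDerivedCategory.standard

variable {𝔛 𝔜 : FSch.Sys.{u}} (hX : 𝔛.IsLocNoethFormal) (hY : 𝔜.IsLocNoethFormal) [CompactSpace (𝔛.X 0)]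
  (f : 𝔛 ⟶ 𝔜) [SiteCmp.HasRpushD (FSch.homMor f hX.1 hY.1)]

theorem isQCT_HMod_inD_jPush [QuasiCompact ((f : FSch.Hom 𝔛 𝔜).app 0)] [QuasiSeparated ((f : FSch.Hom 𝔛 𝔜).app 0)]
    [HasInjectiveResolutions (FSch.ModF 𝔛 hX.1)] (G : (𝔛.X 0).Modules) (hG : Coh.IsCoh G) (q : ℕ) :
    FTors.IsQCT 𝔜 hY.1 ((FSch.RpushF f hX.1 hY.1 q).obj (jPush hX 0 G)) := by
  obtain ⟨e⟩ := nonempty_rpushF_jF_iso hX hY f 0 G q
  haveI := CohFound.isQCoh_rpush ((f : FSch.Hom 𝔛 𝔜).app 0) (M := G) hG.1 q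
  exact isQCT_of_iso hY e.symm (isQCT_jPush hY 0 _)

theorem cohTors_HMod_inD_jPush [IsProper ((f : FSch.Hom 𝔛 𝔜).app 0)]
    [HasInjectiveResolutions (FSch.ModF 𝔛 hX.1)] (G : (𝔛.X 0).Modules) (hG : Coh.IsCoh G) (q : ℕ) :
    CohTors hY ((FSch.RpushF f hX.1 hY.1 q).obj (jPush hX 0 G)) := by
  obtain ⟨e⟩ := nonempty_rpushF_jF_iso hX hY f 0 G q
  haveI := hY.2.2 0
  have h := CohFound.isCoh_rpush ((f : FSch.Hom 𝔛 𝔜).app 0) (M := G) hG q
  haveI : Coh.IsQCoh ((Coh.Rpush ((f : FSch.Hom 𝔛 𝔜).app 0) q).obj G) := h.1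
  exact (CohTors hY).prop_of_iso e.symm ⟨isQCT_jPush hY 0 _, isCohF_jPush hY 0 _ h⟩

/-- A coherent torsion module is good as soon as the modules on the bottom level are. -/
theorem good_inD_coh [HasInjectiveResolutions (FSch.ModF 𝔛 hX.1)] (P : ObjectProperty (FSch.ModF 𝔜 hY.1))
    [P.IsClosedUnderIsomorphisms] (hP : Five P) (hP0 : ∀ M, IsZero M → P M)
    (hbase : ∀ (G : (𝔛.X 0).Modules), Coh.IsCoh G → ∀ q, P ((FSch.RpushF f hX.1 hY.1 q).obj (jPush hX 0 G)))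
    (M : FSch.ModF 𝔛 hX.1) (hM : FSch.IsCohF 𝔛 hX.1 M) (hT : FTors.IsTors (fam hX) M) :
    Good (SiteCmp.RpushD (FSch.homMor f hX.1 hY.1)) P (SiteCmp.inD (𝔛.Osh hX.1) M) := by
  obtain ⟨_, _⟩ := SitePAdj.exists_commShift_isTriangulated_rpushD (FSch.homMor f hX.1 hY.1)
  let P' : ObjectProperty (FSch.ModF 𝔛 hX.1) := fun M =>
    Good (SiteCmp.RpushD (FSch.homMor f hX.1 hY.1)) P (SiteCmp.inD (𝔛.Osh hX.1) M)
  haveI : P'.IsClosedUnderIsomorphisms :=
    ⟨fun e h => Good.of_iso ((DerivedCategory.singleFunctor (FSch.ModF 𝔛 hX.1) 0).mapIso e) h⟩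
  haveI := hM
  refine coh_tors_induction hX M P' (fun G hG i => ?_) (fun S hS h₁ h₃ =>
    good_obj₂ hP _ hS.singleTriangle_distinguished h₁ h₃) hT
  rcases lt_or_ge i 0 with hi | hi
  · refine hP0 _ ?_
    haveI := RpushTrunc.isGE_rpushD (FSch.homMor f hX.1 hY.1) (SiteCmp.inD (𝔛.Osh hX.1) (jPush hX 0 G)) 0 inferInstance
    exact DerivedCategory.isZero_of_isGE _ 0 i hi
  · obtain ⟨q, rfl⟩ := Int.eq_ofNat_of_zero_le hi
    obtain ⟨e⟩ := RpushTrunc.nonempty_homology_inD_iso (FSch.homMor f hX.1 hY.1) (jPush hX 0 G) q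
    exact P.prop_of_iso e.symm (hbase G hG q)

variable [CompactSpace (𝔜.X 0)]

include hX in
theorem quasiCompact_app_zero : QuasiCompact ((f : FSch.Hom 𝔛 𝔜).app 0) :=
  ⟨fun _ hUo _ => isCompact_opens hX ⟨_, hUo.preimage ((f : FSch.Hom 𝔛 𝔜).app 0).continuous⟩⟩

include hX in
theorem quasiSeparated_app_zero : QuasiSeparated ((f : FSch.Hom 𝔛 𝔜).app 0) := by
  haveI := hX.2.2 0
  infer_instance

/-- Quasi-coherent torsion modules are good. -/
theorem good_inD_qct (M : FSch.ModF 𝔛 hX.1) (hM : FTors.IsQCT 𝔛 hX.1 M) :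
    Good (SiteCmp.RpushD (FSch.homMor f hX.1 hY.1)) (FTors.IsQCT 𝔜 hY.1) (SiteCmp.inD (𝔛.Osh hX.1) M) := by
  haveI : IsGrothendieckAbelian.{u} (FSch.ModF 𝔛 hX.1) :=
    CohFound.isGrothendieckAbelian_sheafOfModules (ModSite.ringSh (𝔛.Osh hX.1))
  haveI := IsGrothendieckAbelian.enoughInjectives (C := FSch.ModF 𝔛 hX.1)
  haveI := quasiCompact_app_zero hX f
  haveI := quasiSeparated_app_zero hX f
  haveI := isClosedUnderIsomorphisms_isQCT hY
  obtain ⟨_, _⟩ := SitePAdj.exists_commShift_isTriangulated_rpushD (FSch.homMor f hX.1 hY.1)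
  obtain ⟨B, d, hB, hd⟩ := exists_basis_bound hX f
  refine good_of_resolution (five_isQCT hY) (FTors.IsQCT 𝔛 hX.1) (fun M hM => ?_) d (fun M hM m hm => ?_) M hM
  · obtain ⟨hMt, hMi⟩ := (isQCT_iff hX M).1 hM
    haveI := hM.2
    obtain ⟨A, C, g, hC, hg⟩ := exists_covers hX hMi
    obtain ⟨J, i₁, i₂, pres, hp, hm⟩ := exists_mono_pres hX hC hg
    have hT : ∀ j, FTors.IsTors (fam hX) (pres.diag.obj j) :=
      fun j => @isTors_of_mono _ _ _ _ _ _ _ (pres.ι.app j) (hm j) hMt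
    have hQ : ∀ j, FTors.IsQCT 𝔛 hX.1 (pres.diag.obj j) :=
      fun j => (isQCT_iff hX _).2 ⟨hT j, ind_coh hX (hp j)⟩
    let p : (∐ fun j => pres.diag.obj j) ⟶ M := Sigma.desc fun j => pres.ι.app j
    haveI : Epi p := ⟨fun a b h => pres.isColimit.hom_ext fun j => by
      have := Sigma.ι (fun j => pres.diag.obj j) j ≫= h
      simpa [p] using this⟩
    have hsum : FTors.IsQCT 𝔛 hX.1 (∐ fun j => pres.diag.obj j) :=
      isQCT_colimit hX (Discrete.functor fun j => pres.diag.obj j) (colimit.cocone _) (colimit.isColimit _)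
        fun j => hQ j.as
    haveI := hsum.2
    refine ⟨_, p, inferInstance, ⟨isTors_of_mono (kernel.ι p) hsum.1,
      isQuasicoherent_of_ind hX (ind_kernel hX p ((isQCT_iff hX _).1 hsum).2 hMi)⟩, ?_⟩
    haveI : ∀ i, PreservesColimitsOfShape (Discrete J) (DerivedCategory.homologyFunctor (FSch.ModF 𝔜 hY.1) i) :=
      fun i => DPush.preservesColimitsOfShape_homology (A := FSch.ModF 𝔜 hY.1) (T := J) i
    haveI : (FTors.IsQCT 𝔜 hY.1).IsClosedUnderColimitsOfShape (Discrete J) := by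
      refine ⟨fun X hX' => ?_⟩
      obtain ⟨data⟩ := hX'
      exact isQCT_colimit hY data.diag (Cocone.mk _ data.ι) data.isColimit data.prop_diag_obj
    haveI : PreservesColimit (Discrete.functor fun j =>
        (DerivedCategory.singleFunctor (FSch.ModF 𝔛 hX.1) 0).obj (pres.diag.obj j))
        (SiteCmp.RpushD (FSch.homMor f hX.1 hY.1)) :=
      preservesColimit_rpushD_ind hX hY.1 f (fun j =>
        (DerivedCategory.singleFunctor (FSch.ModF 𝔛 hX.1) 0).obj (pres.diag.obj j)) fun j i => by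
        by_cases hi : i = 0
        · subst hi
          exact ObjectProperty.prop_of_iso _
            ((DerivedCategory.singleFunctorCompHomologyFunctorIso (FSch.ModF 𝔛 hX.1) 0).app (pres.diag.obj j)).symm
            (ind_coh hX (hp j))
        · refine ((isQCT_iff hX _).1 (isQCT_of_isZero hX ?_)).2
          rcases lt_or_gt_of_ne hi with hi | hi
          · exact DerivedCategory.isZero_of_isGE _ 0 i hi
          · exact DerivedCategory.isZero_of_isLE _ 0 i hi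
    exact good_sigma (fun j => pres.diag.obj j) fun j =>
      good_inD_coh hX hY f _ (five_isQCT hY) (fun _ h => isQCT_of_isZero hY h)
        (fun G hG q => isQCT_HMod_inD_jPush hX hY f G hG q) _ (hp j) (hT j)
  · refine isZero_HMod_rpushD_ind hX hY.1 f B hB d hd _ (fun i => ?_) 0 (fun i hi => ?_) m (by omega)
    · by_cases hi : i = 0
      · subst hi
        exact ObjectProperty.prop_of_iso _
          ((DerivedCategory.singleFunctorCompHomologyFunctorIso (FSch.ModF 𝔛 hX.1) 0).app M).symm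
          ((isQCT_iff hX M).1 hM).2
      · refine ((isQCT_iff hX _).1 (isQCT_of_isZero hX ?_)).2
        rcases lt_or_gt_of_ne hi with hi | hi
        · exact DerivedCategory.isZero_of_isGE _ 0 i hi
        · exact DerivedCategory.isZero_of_isLE _ 0 i hi
    · exact DerivedCategory.isZero_of_isLE _ 0 i hi

theorem isDQCT_rpushD (K : DerivedCategory (FSch.ModF 𝔛 hX.1)) (hK : FTors.IsDQCT 𝔛 hX.1 K) :
    FTors.IsDQCT 𝔜 hY.1 ((SiteCmp.RpushD (FSch.homMor f hX.1 hY.1)).obj K) := by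
  haveI := isClosedUnderIsomorphisms_isQCT hY
  haveI := isClosedUnderIsomorphisms_isQCT hX
  obtain ⟨_, _⟩ := SitePAdj.exists_commShift_isTriangulated_rpushD (FSch.homMor f hX.1 hY.1)
  obtain ⟨B, d, hB, hd⟩ := exists_basis_bound hX f
  exact good_of_amplitude (five_isQCT hY) (FTors.IsQCT 𝔛 hX.1) (fun M hM => good_inD_qct hX hY f M hM)
    (fun _ h => isQCT_of_isZero hX h) d (fun X a h => RpushTrunc.isGE_rpushD _ X a h)
    (fun X e hX' he m hm => isZero_HMod_rpushD_ind hX hY.1 f B hB d hd X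
      (fun i => ((isQCT_iff hX _).1 (hX' i)).2) e he m hm) K hK

theorem cohTors_rpushD [IsProper ((f : FSch.Hom 𝔛 𝔜).app 0)] (K : DerivedCategory (FSch.ModF 𝔛 hX.1))
    (hK : ∀ i, CohTors hX (SiteCmp.HMod K i)) (i : ℤ) :
    CohTors hY (SiteCmp.HMod ((SiteCmp.RpushD (FSch.homMor f hX.1 hY.1)).obj K) i) := by
  haveI : IsGrothendieckAbelian.{u} (FSch.ModF 𝔛 hX.1) :=
    CohFound.isGrothendieckAbelian_sheafOfModules (ModSite.ringSh (𝔛.Osh hX.1))
  haveI := IsGrothendieckAbelian.enoughInjectives (C := FSch.ModF 𝔛 hX.1)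
  obtain ⟨_, _⟩ := SitePAdj.exists_commShift_isTriangulated_rpushD (FSch.homMor f hX.1 hY.1)
  obtain ⟨B, d, hB, hd⟩ := exists_basis_bound hX f
  exact good_of_amplitude (five_cohTors hY) (CohTors hX)
    (fun M hM => good_inD_coh hX hY f _ (five_cohTors hY) (fun _ h => cohTors_of_isZero hY h)
      (fun G hG q => cohTors_HMod_inD_jPush hX hY f G hG q) M hM.2 hM.1.1)
    (fun _ h => cohTors_of_isZero hX h) d (fun X a h => RpushTrunc.isGE_rpushD _ X a h)
    (fun X e hX' he m hm => isZero_HMod_rpushD_ind hX hY.1 f B hB d hd X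
      (fun i => ind_coh hX (hX' i).2) e he m hm) K hK i

end Groth.Agent.FTorsH7

namespace Groth.Agent.FTorsH7

open FormalModH7

attribute [local instance] HasDerivedCategory.standard

variable {𝔛 𝔜 : FSch.Sys.{u}} (hX : 𝔛.IsLocNoethFormal) (hY : 𝔜.IsLocNoethFormal) [CompactSpace (𝔛.X 0)]
  [CompactSpace (𝔜.X 0)] (f : 𝔛 ⟶ 𝔜)

theorem nonempty_pushF_iso [SiteCmp.HasRpushD (FSch.homMor f hX.1 hY.1)] (M : FSch.ModF 𝔛 hX.1) :
    Nonempty (SiteCmp.HMod ((SiteCmp.RpushD (FSch.homMor f hX.1 hY.1)).obj (SiteCmp.inD (𝔛.Osh hX.1) M)) 0 ≅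
      (FSch.pushF f hX.1 hY.1).obj M) := by
  haveI : IsGrothendieckAbelian.{u} (FSch.ModF 𝔛 hX.1) :=
    CohFound.isGrothendieckAbelian_sheafOfModules (ModSite.ringSh (𝔛.Osh hX.1))
  haveI := IsGrothendieckAbelian.enoughInjectives (C := FSch.ModF 𝔛 hX.1)
  haveI : PreservesFiniteLimits (FSch.pushF f hX.1 hY.1) :=
    haveI := (FSch.homMor f hX.1 hY.1).adj.rightAdjoint_preservesLimits
    inferInstance
  obtain ⟨e⟩ := RpushTrunc.nonempty_homology_inD_iso (FSch.homMor f hX.1 hY.1) M 0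
  exact ⟨e ≪≫ (FSch.pushF f hX.1 hY.1).rightDerivedZeroIsoSelf.app M⟩

theorem isQCT_pushF (M : FSch.ModF 𝔛 hX.1) (hM : FTors.IsQCT 𝔛 hX.1 M) :
    FTors.IsQCT 𝔜 hY.1 ((FSch.pushF f hX.1 hY.1).obj M) := by
  haveI : IsGrothendieckAbelian.{u} (FSch.ModF 𝔛 hX.1) :=
    CohFound.isGrothendieckAbelian_sheafOfModules (ModSite.ringSh (𝔛.Osh hX.1))
  haveI : SiteCmp.HasRpushD (FSch.homMor f hX.1 hY.1) :=
    KInjLib.hasRightDerivedFunctor KInjLib.enoughKInj_of_grothendieck _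
  obtain ⟨e⟩ := nonempty_pushF_iso hX hY f M
  exact isQCT_of_iso hY e (good_inD_qct hX hY f M hM 0)

theorem cohTors_pushF [IsProper ((f : FSch.Hom 𝔛 𝔜).app 0)] (M : FSch.ModF 𝔛 hX.1) (hM : CohTors hX M) :
    CohTors hY ((FSch.pushF f hX.1 hY.1).obj M) := by
  haveI : IsGrothendieckAbelian.{u} (FSch.ModF 𝔛 hX.1) :=
    CohFound.isGrothendieckAbelian_sheafOfModules (ModSite.ringSh (𝔛.Osh hX.1))
  haveI := IsGrothendieckAbelian.enoughInjectives (C := FSch.ModF 𝔛 hX.1)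
  haveI : SiteCmp.HasRpushD (FSch.homMor f hX.1 hY.1) :=
    KInjLib.hasRightDerivedFunctor KInjLib.enoughKInj_of_grothendieck _
  obtain ⟨e⟩ := nonempty_pushF_iso hX hY f M
  exact (CohTors hY).prop_of_iso e (good_inD_coh hX hY f _ (five_cohTors hY) (fun _ h => cohTors_of_isZero hY h)
    (fun G hG q => cohTors_HMod_inD_jPush hX hY f G hG q) M hM.2 hM.1.1 0)

end Groth.Agent.FTorsH7
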